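import Mathlib

/-!
Subgroups of symplectic groups in characteristic two, part 1: the root elements
`x ↦ x + B(x, v) e + B(x, e) v + c B(x, e) e`.
-/

set_option autoImplicit false
set_option linter.unusedSectionVars false

namespace CfsgLib.SpIrred

variable {F V : Type*} [Field F] [CharP F 2] [AddCommGroup V] [Module F V]

/-- The map of a root element. -/
def sief (B : V →ₗ[F] V →ₗ[F] F) (e v : V) (c : F) (x : V) : V :=
  x + B x v • e + B x e • v + (c * B x e) • e

/-- An alternating form preserved by a group. -/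
structure Ctx (F V : Type*) [Field F] [AddCommGroup V] [Module F V] where
  /-- The form. -/
  B : V →ₗ[F] V →ₗ[F] F
  /-- The group. -/
  L : Subgroup (V ≃ₗ[F] V)
  alt : ∀ x, B x x = 0
  nd : ∀ x, (∀ y, B x y = 0) → x = 0
  pres : ∀ g ∈ L, ∀ x y, B (g x) (g y) = B x y

variable (C : Ctx F V)

/-- The group has the root element with the given data. -/
def InL (e v : V) (c : F) : Prop := ∃ g ∈ C.L, ∀ x, g x = sief C.B e v c x

/-- Root elements with every vector part. -/
def Full (e : V) : Prop := ∀ v, C.B e v = 0 → ∃ c, InL C e v c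

/-- A hyperbolic pair of full vectors. -/
structure Pair (a b : V) : Prop where
  fa : Full C a
  fb : Full C b
  ab : C.B a b = 1

/-- The orthogonal complement of a pair. -/
def Perp (a b : V) (w : V) : Prop := C.B a w = 0 ∧ C.B b w = 0

variable {C}

theorem symm (x y : V) : C.B x y = C.B y x := by
  have h := C.alt (x + y)
  simp only [map_add, LinearMap.add_apply, C.alt] at h
  rw [← CharTwo.add_eq_zero]
  linear_combination h

theorem sq_exists [Finite F] (c : F) : ∃ r, r ^ 2 = c := by
  obtain ⟨r, hr⟩ := ((Finite.injective_iff_bijective (f := fun x : F => x ^ 2)).1 CharTwo.sq_injective).2 c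
  exact ⟨r, hr⟩

/-- Equality of combinations with coefficients computed in characteristic two. -/
theorem two0 : (2 : F) = 0 := CharTwo.two_eq_zero

theorem four0 : (4 : F) = 0 := by linear_combination 2 * two0 (F := F)

theorem three1 : (3 : F) = 1 := by linear_combination two0 (F := F)

theorem inL_mul {e v w : V} {c d : F} (hv : C.B e v = 0) (hw : C.B e w = 0) (h1 : InL C e v c)
    (h2 : InL C e w d) : InL C e (v + w) (c + d + C.B w v) := by
  obtain ⟨g, hg, hgx⟩ := h1
  obtain ⟨g', hg', hgx'⟩ := h2
  refine ⟨g * g', mul_mem hg hg', fun x => ?_⟩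
  show g (g' x) = _
  simp only [hgx, hgx', sief, map_add, map_smul, LinearMap.add_apply, LinearMap.smul_apply, smul_eq_mul,
    C.alt, hv, hw, symm (C := C) w e]
  match_scalars <;> ring

theorem inL_one (e : V) : InL C e 0 0 := ⟨1, one_mem _, fun x => by simp [sief]⟩

/-- Root elements with vanishing vector part add. -/
theorem inL_add {e : V} {c d : F} (h1 : InL C e 0 c) (h2 : InL C e 0 d) : InL C e 0 (c + d) := by
  have := inL_mul (by simp) (by simp) h1 h2
  simpa using this

theorem inL_conj {e v : V} {c : F} (h : InL C e v c) {g : V ≃ₗ[F] V} (hg : g ∈ C.L) :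
    InL C (g e) (g v) c := by
  obtain ⟨k, hk, hkx⟩ := h
  refine ⟨g * k * g⁻¹, mul_mem (mul_mem hg hk) (inv_mem hg), fun x => ?_⟩
  show g (k (g.symm x)) = _
  have e1 : ∀ y, C.B (g.symm x) y = C.B x (g y) := fun y => by
    conv_rhs => rw [← g.apply_symm_apply x]
    rw [C.pres g hg]
  simp only [hkx, sief, e1, map_add, map_smul, LinearEquiv.apply_symm_apply]

theorem inL_congr {e v e' v' : V} {c c' : F} (h : InL C e v c)
    (heq : ∀ x, sief C.B e v c x = sief C.B e' v' c' x) : InL C e' v' c' := by
  obtain ⟨g, hg, hgx⟩ := h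
  exact ⟨g, hg, fun x => (hgx x).trans (heq x)⟩

theorem inL_scale_iff {t : F} (ht : t ≠ 0) {e v : V} {c : F} :
    InL C (t • e) v c ↔ InL C e (t • v) (t ^ 2 * c) := by
  have : ∀ x, sief C.B (t • e) v c x = sief C.B e (t • v) (t ^ 2 * c) x := fun x => by
    simp only [sief, map_smul, smul_eq_mul]
    match_scalars <;> ring
  exact ⟨fun h => inL_congr h this, fun h => inL_congr h fun x => (this x).symm⟩

theorem inL_shift {e v : V} {c : F} (t : F) (h : InL C e v c) : InL C e (v + t • e) c :=
  inL_congr h fun x => by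
    simp only [sief, map_add, map_smul, smul_eq_mul]
    match_scalars <;> ring_nf <;> simp [two0, four0]

theorem inL_shift_iff {e v : V} {c : F} (t : F) : InL C e (v + t • e) c ↔ InL C e v c := by
  refine ⟨fun h => ?_, inL_shift t⟩
  have := inL_shift t h
  rwa [add_assoc, ← add_smul, CharTwo.add_self_eq_zero, zero_smul, add_zero] at this

theorem inL_swap {e v : V} (h : InL C e v 0) : InL C v e 0 :=
  inL_congr h fun x => by simp only [sief, zero_mul, zero_smul]; abel

theorem inL_smul_left {e v : V} (t : F) (ht : t ≠ 0) (h : InL C e (t • v) 0) : InL C (t • e) v 0 := by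
  rw [inL_scale_iff ht, mul_zero]
  exact h

theorem full_conj {e : V} (h : Full C e) {g : V ≃ₗ[F] V} (hg : g ∈ C.L) : Full C (g e) := by
  intro v hv
  obtain ⟨c, hc⟩ := h (g.symm v) (by rw [← C.pres g hg, g.apply_symm_apply]; exact hv)
  have := inL_conj hc hg
  rw [g.apply_symm_apply] at this
  exact ⟨c, this⟩

theorem full_smul {e : V} (h : Full C e) {t : F} (ht : t ≠ 0) : Full C (t • e) := by
  intro v hv
  rw [map_smul, LinearMap.smul_apply, smul_eq_mul, mul_eq_zero, or_iff_right ht] at hv
  obtain ⟨c, hc⟩ := h (t • v) (by rw [map_smul, hv, smul_zero])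
  refine ⟨c / t ^ 2, (inL_scale_iff ht).2 ?_⟩
  rwa [mul_div_cancel₀ _ (pow_ne_zero _ ht)]

/-- The image of a vector under a root element. -/
theorem inL_move {e v : V} {c : F} (h : InL C e v c) {p : V} (hp : Full C p) :
    Full C (p + C.B p v • e + C.B p e • v + (c * C.B p e) • e) := by
  obtain ⟨g, hg, hgx⟩ := h
  have := full_conj hp hg
  rwa [hgx] at this

/-- The composition of two pure root elements in orthogonal directions. -/
theorem inL_tv_tv {u a : V} {e t : F} (hau : C.B a u = 0) (h1 : InL C u 0 e)
    (h2 : InL C (u + t • a) 0 e) : InL C a ((e * t) • u) (e * t ^ 2) := by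
  obtain ⟨g, hg, hgx⟩ := h1
  obtain ⟨g', hg', hgx'⟩ := h2
  refine ⟨g' * g, mul_mem hg' hg, fun x => ?_⟩
  show g' (g x) = _
  simp only [hgx, hgx', sief, map_add, map_smul, LinearMap.add_apply, LinearMap.smul_apply, smul_eq_mul,
    smul_zero, add_zero, map_zero, mul_zero, zero_smul, C.alt, symm (C := C) u a, hau]
  match_scalars
  · ring
  · linear_combination (e * C.B x u) * two0 (F := F)
  · ring

/-- Transport by a conjugate root element. -/
theorem inL_conj_root {e v p w : V} {c d : F} (h : InL C e v c) (hk : InL C p w d) :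
    InL C (sief C.B p w d e) (sief C.B p w d v) c := by
  obtain ⟨g, hg, hgx⟩ := hk
  rw [← hgx, ← hgx]
  exact inL_conj h hg

section pair

variable {a b : V} (P : Pair C a b)
include P

theorem pair_symm : Pair C b a := ⟨P.fb, P.fa, by rw [symm, P.ab]⟩

theorem pair_ba : C.B b a = 1 := (pair_symm P).ab

theorem pair_ne_zero : a ≠ 0 := fun h => by have := P.ab; simp [h] at this

theorem perp_proj (x : V) : Perp C a b (x + C.B x b • a + C.B x a • b) := by
  constructor
  · simp only [map_add, map_smul, smul_eq_mul, C.alt, P.ab, symm (C := C) a x]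
    linear_combination C.B x a * two0 (F := F)
  · simp only [map_add, map_smul, smul_eq_mul, C.alt, pair_ba P, symm (C := C) b x]
    linear_combination C.B x b * two0 (F := F)

theorem perp_add {v w : V} (hv : Perp C a b v) (hw : Perp C a b w) : Perp C a b (v + w) :=
  ⟨by simp [hv.1, hw.1], by simp [hv.2, hw.2]⟩

theorem perp_smul {v : V} (hv : Perp C a b v) (t : F) : Perp C a b (t • v) :=
  ⟨by simp [hv.1], by simp [hv.2]⟩

/-- A partner inside the complement. -/
theorem perp_partner {u : V} (hu : Perp C a b u) (hu0 : u ≠ 0) : ∃ v, Perp C a b v ∧ C.B u v = 1 := by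
  obtain ⟨y, hy⟩ : ∃ y, C.B u y ≠ 0 := by
    by_contra h
    push Not at h
    exact hu0 (C.nd u h)
  refine ⟨(C.B u y)⁻¹ • (y + C.B y b • a + C.B y a • b), perp_smul P (perp_proj P y) _, ?_⟩
  simp only [map_add, map_smul, smul_eq_mul, symm (C := C) u a, symm (C := C) u b, hu.1, hu.2, mul_zero,
    add_zero]
  exact inv_mul_cancel₀ hy

end pair

end CfsgLib.SpIrred
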