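import Cfsg.Agent.Lib.SpIrred.Two

/-!
Subgroups of symplectic groups in characteristic two, part 8: the four-dimensional exception over the field of
two elements.
-/

set_option autoImplicit false
set_option linter.unusedSectionVars false

namespace CfsgLib.SpIrred

open Module

variable {F V : Type*} [Field F] [CharP F 2] [Fintype F] [AddCommGroup V] [Module F V] [FiniteDimensional F V]
  {C : Ctx F V}

theorem sief_comp {p v w : V} {c d : F} (hv : C.B p v = 0) (hw : C.B p w = 0) (x : V) :
    sief C.B p v c (sief C.B p w d x) = sief C.B p (v + w) (c + d + C.B w v) x := by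
  simp only [sief, map_add, map_smul, LinearMap.add_apply, LinearMap.smul_apply, smul_eq_mul,
    C.alt, hv, hw, symm (C := C) w p]
  match_scalars <;> ring_nf <;> simp [two0, three1]

/-- The root group of a vector inside the group. -/
def rootGroup (C : Ctx F V) (p : V) : Subgroup C.L where
  carrier := {g | ∃ (v : V) (c : F), C.B p v = 0 ∧ ∀ x, g.1 x = sief C.B p v c x}
  one_mem' := ⟨0, 0, by simp, fun x => by simp [sief]⟩
  mul_mem' := by
    rintro g g' ⟨v, c, hv, hg⟩ ⟨w, d, hw, hg'⟩
    refine ⟨v + w, c + d + C.B w v, by simp [hv, hw], fun x => ?_⟩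
    show g.1 (g'.1 x) = _
    rw [hg, hg', sief_comp hv hw]
  inv_mem' := by
    rintro g ⟨v, c, hv, hg⟩
    refine ⟨v, c, hv, fun x => ?_⟩
    show g.1.symm x = _
    rw [LinearEquiv.symm_apply_eq, hg, sief_comp hv hv, C.alt, add_zero, CharTwo.add_self_eq_zero,
      ← two_smul F v, two0, zero_smul]
    simp [sief]

theorem mem_rootGroup {p : V} {g : C.L} :
    g ∈ rootGroup C p ↔ ∃ (v : V) (c : F), C.B p v = 0 ∧ ∀ x, g.1 x = sief C.B p v c x := Iff.rfl

theorem exists_dual {p : V} (hp : p ≠ 0) : ∃ r, C.B p r = 1 := by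
  obtain ⟨y, hy⟩ : ∃ y, C.B p y ≠ 0 := by
    by_contra hcon
    push Not at hcon
    exact hp (C.nd p hcon)
  exact ⟨(C.B p y)⁻¹ • y, by rw [map_smul, smul_eq_mul, inv_mul_cancel₀ hy]⟩

variable (hbig : ∀ a b : V, ∃ w : V, w ≠ 0 ∧ C.B a w = 0 ∧ C.B b w = 0)
  (hq : Fintype.card F = 2) (hall : ∀ p : V, p ≠ 0 → Full C p)
include hbig hq hall

/-- The common fixed vectors of a root group. -/
theorem fixed_root {p y : V} (hp : p ≠ 0) (hy : y ≠ 0) (h : ∀ g ∈ rootGroup C p, g.1 y = y) : y = p := by
  obtain ⟨r, hr⟩ := exists_dual (C := C) hp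
  have hmove : ∀ v, C.B p v = 0 → ∃ c, C.B y v • p + C.B y p • v + (c * C.B y p) • p = 0 := by
    intro v hv
    obtain ⟨c, g, hg, hgx⟩ := hall p hp v hv
    have h1 := h ⟨g, hg⟩ ⟨v, c, hv, hgx⟩
    change g y = y at h1
    rw [hgx, sief] at h1
    exact ⟨c, by rwa [add_assoc, add_assoc, add_eq_left, ← add_assoc] at h1⟩
  have hyp : C.B y p = 0 := by
    by_contra hne
    obtain ⟨v, hv0, hv1, hv2⟩ := hbig p r
    obtain ⟨c, hc⟩ := hmove v hv1
    have h2 := congrArg (fun z => C.B r z) hc
    simp only [map_add, map_smul, smul_eq_mul, map_zero, symm (C := C) r p, hr, hv2, mul_zero, mul_one,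
      add_zero] at h2
    have h3 : C.B y p • v = 0 := by
      rw [add_comm (C.B y v • p), add_assoc, ← add_smul, h2, zero_smul, add_zero] at hc
      exact hc
    exact hv0 ((smul_eq_zero.1 h3).resolve_left hne)
  have key : y + C.B y r • p = 0 := by
    refine C.nd _ fun z => ?_
    set v := z + C.B p z • r with hv
    have hpv : C.B p v = 0 := by simp [hv, hr, CharTwo.add_self_eq_zero]
    obtain ⟨c, hc⟩ := hmove v hpv
    rw [hyp, zero_smul, mul_zero, zero_smul, add_zero, add_zero, smul_eq_zero, or_iff_left hp] at hc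
    simp only [hv, map_add, map_smul, smul_eq_mul] at hc
    simp only [map_add, map_smul, LinearMap.add_apply, LinearMap.smul_apply, smul_eq_mul]
    linear_combination hc
  rcases zero_or_one hq (C.B y r) with h1 | h1
  · rw [h1, zero_smul, add_zero] at key; exact absurd key hy
  · rw [h1, one_smul] at key
    have h2 := congrArg (· + p) key
    simpa [add_assoc, ← two_smul F p, two0] using h2

variable [Finite V]

/-- The group is transitive on nonzero vectors. -/
theorem transitive_two {p q : V} (hp : p ≠ 0) (hq0 : q ≠ 0) : ∃ g ∈ C.L, g q = p := by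
  classical
  haveI : Fintype V := Fintype.ofFinite V
  haveI : Finite (V ≃ₗ[F] V) := Finite.of_injective (fun g : V ≃ₗ[F] V => (g : V → V)) DFunLike.coe_injective
  haveI : Fact (Nat.Prime 2) := ⟨Nat.prime_two⟩
  by_contra hcon
  push Not at hcon
  have hne : ∀ y ∈ MulAction.orbit C.L q, y ≠ 0 := by
    rintro _ ⟨g, rfl⟩ h0
    exact hq0 (g.1.map_eq_zero_iff.1 h0)
  have hP : ∀ s : V, IsPGroup 2 (rootGroup C s) := fun s g => ⟨1, by
    obtain ⟨v, c, hv, hg⟩ := g.2
    refine Subtype.ext (Subtype.ext (LinearEquiv.ext fun x => ?_))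
    rw [pow_one, pow_two]
    show g.1.1 (g.1.1 x) = x
    rw [hg, hg, sief_comp hv hv, C.alt, add_zero, CharTwo.add_self_eq_zero, ← two_smul F v, two0, zero_smul]
    simp [sief]⟩
  have hfix : ∀ s : V, s ≠ 0 → ∀ y : MulAction.orbit C.L q,
      y ∈ MulAction.fixedPoints (rootGroup C s) (MulAction.orbit C.L q) → y.1 = s := fun s hs y hy =>
    fixed_root hbig hq hall hs (hne _ y.2) fun g hg => congrArg Subtype.val (hy ⟨g, hg⟩)
  have h1 := (hP q).card_modEq_card_fixedPoints (MulAction.orbit C.L q)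
  have h2 := (hP p).card_modEq_card_fixedPoints (MulAction.orbit C.L q)
  have e1 : Nat.card (MulAction.fixedPoints (rootGroup C q) (MulAction.orbit C.L q)) = 1 := by
    refine Nat.card_eq_one_iff_exists.2 ⟨⟨⟨q, MulAction.mem_orbit_self q⟩, fun g => Subtype.ext ?_⟩,
      fun y => Subtype.ext (Subtype.ext (hfix q hq0 y.1 y.2))⟩
    obtain ⟨v, c, hv, hg⟩ := g.2
    show g.1.1 q = q
    simp [hg, sief, C.alt, hv]
  have e2 : Nat.card (MulAction.fixedPoints (rootGroup C p) (MulAction.orbit C.L q)) = 0 := by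
    refine Finite.card_eq_zero_iff.2 ⟨fun y => ?_⟩
    obtain ⟨g, hg⟩ := y.1.2
    exact hcon g.1 g.2 (hg.trans (hfix p hp y.1 y.2))
  rw [e1] at h1
  rw [e2] at h2
  have := h1.symm.trans h2
  exact absurd this (by decide)

variable (hZ : NoTv C) (hdim : finrank F V = 4)
include hZ hdim

theorem nondeg_B : C.B.Nondegenerate :=
  ⟨fun x hx => C.nd x hx, fun y hy => C.nd y fun x => by rw [symm]; exact hy x⟩

/-- Root groups have order four. -/
theorem card_rootGroup {p : V} (hp : p ≠ 0) : Nat.card (rootGroup C p) = 4 := by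
  classical
  haveI : Fintype V := Fintype.ofFinite V
  obtain ⟨r, hr⟩ := exists_dual (C := C) hp
  have hli : LinearIndependent F ![p, r] := (LinearIndependent.pair_iff' hp).2 fun t ht => by
    have h1 := congrArg (C.B p) ht
    rw [map_smul, C.alt, smul_zero, hr] at h1
    exact zero_ne_one h1
  set S := Submodule.span F (Set.range ![p, r]) with hS
  set W := LinearMap.BilinForm.orthogonal C.B S with hW
  have hWd : finrank F W = 2 := by
    rw [hW, LinearMap.BilinForm.finrank_orthogonal (nondeg_B hbig hq hall hZ hdim), hdim, hS,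
      finrank_span_eq_card hli, Fintype.card_fin]
  have hWm : ∀ v : W, C.B p v = 0 ∧ C.B r v = 0 := fun v =>
    ⟨v.2 p (Submodule.subset_span ⟨0, rfl⟩), v.2 r (Submodule.subset_span ⟨1, rfl⟩)⟩
  choose c g hg hgx using fun v : W => hall p hp v (hWm v).1
  let φ : W → rootGroup C p := fun v => ⟨⟨g v, hg v⟩, v.1, c v, (hWm v).1, hgx v⟩
  have hφ : Function.Bijective φ := by
    constructor
    · intro v v' h
      have h1 : g v r = g v' r := by
        rw [show g v = g v' from congrArg (fun z => z.1.1) h]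
      have hrp : C.B r p = 1 := by rw [symm, hr]
      rw [hgx, hgx, sief, sief, (hWm v).2, (hWm v').2, hrp] at h1
      simp only [zero_smul, add_zero, one_smul, mul_one] at h1
      have h2 := congrArg (fun z => C.B r z) h1
      simp only [map_add, map_smul, smul_eq_mul, hrp, (hWm v).2, (hWm v').2, C.alt, mul_one, zero_add] at h2
      rw [h2, add_left_inj, add_right_inj] at h1
      exact Subtype.ext h1
    · intro x
      obtain ⟨v, d, hv, hx⟩ := x.2
      set w := v + C.B r v • p with hw
      have hwW : w ∈ W := by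
        intro z hz
        induction hz using Submodule.span_induction with
        | mem y hy =>
          obtain ⟨i, rfl⟩ := hy
          fin_cases i <;> simp [hw, hv, C.alt, symm (C := C) r p, hr, CharTwo.add_self_eq_zero]
        | zero => simp
        | add y z _ _ h h' => simp_all
        | smul t y _ h => simp_all
      have h1 : InL C p w d := inL_shift _ ⟨x.1.1, x.1.2, hx⟩
      have h2 : InL C p w (c ⟨w, hwW⟩) := ⟨g ⟨w, hwW⟩, hg _, hgx _⟩
      have he : d = c ⟨w, hwW⟩ :=
        CharTwo.add_eq_zero.1 (hZ p hp (hall p hp) _ (inL_diff (hWm ⟨w, hwW⟩).1 h1 h2))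
      refine ⟨⟨w, hwW⟩, Subtype.ext (Subtype.ext (LinearEquiv.ext fun z => ?_))⟩
      show g ⟨w, hwW⟩ z = x.1.1 z
      rw [hgx, hx, ← he]
      simp only [sief, hw, map_add, map_smul, smul_eq_mul]
      match_scalars <;> ring_nf <;> simp [two0, three1]
  rw [← Nat.card_congr (Equiv.ofBijective φ hφ), Module.natCard_eq_pow_finrank (K := F), hWd,
    Nat.card_eq_fintype_card, hq]
  rfl

theorem card_orbit {p : V} (hp : p ≠ 0) : Nat.card (MulAction.orbit C.L p) = 15 := by
  classical
  haveI : Fintype V := Fintype.ofFinite V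
  have e : MulAction.orbit C.L p = {y : V | y ≠ 0} := by
    ext y
    constructor
    · rintro ⟨g, rfl⟩ h0
      exact hp (g.1.map_eq_zero_iff.1 h0)
    · intro hy
      obtain ⟨g, hg, hgy⟩ := transitive_two hbig hq hall hy hp
      exact ⟨⟨g, hg⟩, hgy⟩
  rw [e, Nat.card_eq_fintype_card]
  show Fintype.card {y : V // y ≠ 0} = 15
  rw [Fintype.card_subtype_compl, Fintype.card_subtype_eq, Module.card_eq_pow_finrank (K := F), hq, hdim]
  rfl

/-- The order of the group and its root groups. -/
theorem exception (p : V) (hp : p ≠ 0) :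
    60 ∣ Nat.card C.L ∧ (Nat.card C.L = 60 → ∃ X : Subgroup C.L, Nat.card X = 4 ∧
      (∀ x ∈ X, ∀ y ∈ X, x * y = y * x) ∧ ∀ g : C.L, (∀ x ∈ X, g * x * g⁻¹ ∈ X) → g ∈ X) := by
  classical
  haveI : Finite (V ≃ₗ[F] V) := Finite.of_injective (fun g : V ≃ₗ[F] V => (g : V → V)) DFunLike.coe_injective
  have h4 := card_rootGroup hbig hq hall hZ hdim hp
  have hos : Nat.card (MulAction.orbit C.L p) * Nat.card (MulAction.stabilizer C.L p) = Nat.card C.L := by
    rw [← Nat.card_prod]
    exact Nat.card_congr (MulAction.orbitProdStabilizerEquivGroup C.L p)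
  rw [card_orbit hbig hq hall hZ hdim hp] at hos
  have hle : rootGroup C p ≤ MulAction.stabilizer C.L p := by
    rintro g ⟨v, c, hv, hg⟩
    show g.1 p = p
    simp [hg, sief, C.alt, hv]
  refine ⟨?_, fun h60 => ⟨rootGroup C p, h4, ?_, fun g hg => ?_⟩⟩
  · have h15 : 15 ∣ Nat.card C.L := ⟨_, hos.symm⟩
    have h4' : 4 ∣ Nat.card C.L := h4 ▸ Subgroup.card_subgroup_dvd_card _
    omega
  · rintro x ⟨v, c, hv, hx⟩ y ⟨w, d, hw, hy⟩
    refine Subtype.ext (LinearEquiv.ext fun z => ?_)
    show x.1 (y.1 z) = y.1 (x.1 z)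
    rw [hx, hy, hy, hx, sief_comp hv hw, sief_comp hw hv, add_comm v w, symm w v, add_comm c d]
  · have hS : MulAction.stabilizer C.L p = rootGroup C p := (Subgroup.eq_of_le_of_card_ge hle (by omega)).symm
    rw [← hS]
    refine fixed_root hbig hq hall hp (fun h0 => hp (g.1.map_eq_zero_iff.1 h0)) fun x hx => ?_
    obtain ⟨y, hy, hxy⟩ : ∃ y ∈ rootGroup C p, g * y * g⁻¹ = x := by
      have hinj : Function.Injective (fun y : rootGroup C p => (⟨g * y.1 * g⁻¹, hg y.1 y.2⟩ : rootGroup C p)) :=
        fun y y' h => Subtype.ext (by simpa using congrArg Subtype.val h)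
      obtain ⟨y, hy⟩ := (Finite.injective_iff_surjective.1 hinj) ⟨x, hx⟩
      exact ⟨y.1, y.2, congrArg Subtype.val hy⟩
    rw [← hxy]
    have hyp : y.1 p = p := hle hy
    show g.1 (y.1 (g.1.symm (g.1 p))) = g.1 p
    rw [g.1.symm_apply_apply, hyp]

end CfsgLib.SpIrred
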