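import Cfsg.Agent.Lib.SpIrred.Line

/-!
Subgroups of symplectic groups in characteristic two, part 5: the invariant quadratic form.
-/

set_option autoImplicit false
set_option linter.unusedSectionVars false

namespace CfsgLib.SpIrred

open QuadraticMap

variable {F V : Type*} [Field F] [CharP F 2] [AddCommGroup V] [Module F V] {C : Ctx F V}

/-- The parameters of a pair form a quadratic form and the pair determines the partner. -/
structure Regular (C : Ctx F V) (a b : V) : Prop where
  point : ∀ δ : F, Full C (b + δ • a) → δ = 0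
  quad : ∀ (t : F) (v : V) (c : F), Perp C a b v → InL C a v c → InL C a (t • v) (t ^ 2 * c) ∧ InL C b v c

/-- Projection to the complement of a pair. -/
def proj (C : Ctx F V) (a b x : V) : V := x + C.B x b • a + C.B x a • b

variable {a b : V} (P : Pair C a b)
include P

theorem proj_spec (x : V) : x = proj C a b x + C.B x b • a + C.B x a • b := by
  simp only [proj]
  match_scalars <;> ring_nf <;> simp [two0]

theorem proj_mem (x : V) : Perp C a b (proj C a b x) := perp_proj P x

theorem proj_perp {v : V} (hv : Perp C a b v) : proj C a b v = v := by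
  simp [proj, symm (C := C) v a, symm (C := C) v b, hv.1, hv.2]

theorem proj_add (x y : V) : proj C a b (x + y) = proj C a b x + proj C a b y := by
  simp only [proj, map_add, LinearMap.add_apply]
  module

theorem proj_smul (t : F) (x : V) : proj C a b (t • x) = t • proj C a b x := by
  simp only [proj, map_smul, LinearMap.smul_apply, smul_eq_mul]
  module

theorem proj_B (x y : V) :
    C.B (proj C a b y) (proj C a b x) + (C.B x a * C.B y b + C.B y a * C.B x b) = C.B x y := by
  simp only [proj, map_add, map_smul, LinearMap.add_apply, LinearMap.smul_apply, smul_eq_mul, C.alt, P.ab,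
    pair_ba P, symm (C := C) a x, symm (C := C) b x, symm (C := C) y x]
  ring_nf
  simp [two0, four0]

theorem Regular.symm' (hZ : NoTv C) (h : Regular C a b) : Regular C b a := by
  refine ⟨fun δ hδ => ?_, fun t v c hv hc => ?_⟩
  · by_contra h0
    have h1 := full_smul hδ (inv_ne_zero h0)
    rw [smul_add, smul_smul, inv_mul_cancel₀ h0, one_smul, add_comm] at h1
    exact inv_ne_zero h0 (h.point _ h1)
  · have hv' : Perp C a b v := ⟨hv.2, hv.1⟩
    obtain ⟨d, hd⟩ := P.fa v hv'.1
    obtain ⟨h1, h2⟩ := h.quad t v d hv' hd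
    have hcd : c = d := uniq (pair_symm P) hZ hv.1 hc h2
    rw [hcd]
    exact ⟨(h.quad 1 (t • v) _ (perp_smul P hv' t) h1).2, hd⟩

/-- A full vector meeting the pair once lies on the graph. -/
theorem full_graph (hZ : NoTv C) (h : Regular C a b) {p : V} (hp : Full C p) (hap : C.B a p = 1) :
    InL C a (proj C a b p) (C.B p b) := by
  set w := proj C a b p with hw
  have hwp : Perp C a b w := proj_mem P p
  obtain ⟨c, hc⟩ := P.fa w hwp.1
  have hwa : C.B w a = 0 := by rw [symm, hwp.1]
  have hwb : C.B w b = 0 := by rw [symm, hwp.2]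
  have hpa : C.B p a = 1 := by rw [symm, hap]
  have hpw : C.B p w = 0 := by
    simp [hw, proj, C.alt, hpa]
    ring_nf; simp [two0]
  have h1 := inL_move hc hp
  rw [hpw, hpa, zero_smul, add_zero, one_smul, mul_one] at h1
  have e : p + w + c • a = b + (C.B p b + c) • a := by
    simp only [hw, proj, hpa, one_smul]
    match_scalars <;> ring_nf <;> simp [two0]
  rw [e] at h1
  rwa [CharTwo.add_eq_zero.1 (h.point _ h1)]

/-- Full vectors in the first hyperplane have zero value. -/
theorem full_perp (hZ : NoTv C) (h : Regular C a b) {p : V} (hp : Full C p) (hap : C.B a p = 0) :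
    InL C a (proj C a b p) 0 := by
  by_cases hbp : C.B b p = 0
  · obtain ⟨c, hc⟩ := hp a (by rw [symm, hap])
    have h1 := inL_move hc P.fb
    rw [pair_ba P, one_smul, hbp, zero_smul, add_zero, mul_zero, zero_smul, add_zero] at h1
    have h2 := full_graph P hZ h h1 (by rw [map_add, P.ab, hap, add_zero])
    have e : proj C a b (b + p) = proj C a b p := by
      rw [proj_add P, show proj C a b b = 0 by
        simp [proj, C.alt, pair_ba P, ← two_smul F b, two0], zero_add]
    rw [e, map_add, LinearMap.add_apply, C.alt, zero_add, symm p b, hbp] at h2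
    exact h2
  · set s := (C.B b p)⁻¹ with hs
    have hs0 : s ≠ 0 := inv_ne_zero hbp
    have h1 := full_graph (pair_symm P) hZ (h.symm' P hZ) (full_smul hp hs0)
      (by rw [map_smul, smul_eq_mul, hs, inv_mul_cancel₀ hbp])
    have hP' : Perp C a b (proj C b a (s • p)) := ⟨(proj_mem (pair_symm P) _).2, (proj_mem (pair_symm P) _).1⟩
    have h2 := ((h.symm' P hZ).quad s⁻¹ _ _ ⟨hP'.2, hP'.1⟩ h1)
    rw [← proj_smul (pair_symm P), smul_smul, inv_mul_cancel₀ hs0, one_smul] at h2
    have h3 := ((h.symm' P hZ).quad 1 _ _ ⟨(proj_mem (pair_symm P) p).1, (proj_mem (pair_symm P) p).2⟩ h2.1).2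
    rw [map_smul, LinearMap.smul_apply, smul_eq_mul, symm p a, hap, mul_zero, mul_zero] at h3
    rwa [show proj C b a p = proj C a b p by simp only [proj]; abel] at h3

/-- The invariant quadratic form. -/
theorem exists_form (hZ : NoTv C) (h : Regular C a b) :
    ∃ Q : QuadraticForm F V, (∀ x y, polar (⇑Q) x y = C.B x y) ∧ (∀ g ∈ C.L, ∀ z, Q (g z) = Q z) ∧
      Q a = 0 ∧ Q b = 0 ∧ ∀ p v, p ≠ 0 → Q p = 0 → C.B p v = 0 → InL C p v (Q v) := by
  choose f hf using fun x : V => P.fa (proj C a b x) (proj_mem P x).1
  have hfe : ∀ x c, InL C a (proj C a b x) c → f x = c := fun x c hc =>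
    uniq P hZ (proj_mem P x).1 (hf x) hc
  have hfadd : ∀ x y, f (x + y) = f x + f y + C.B (proj C a b y) (proj C a b x) := fun x y =>
    hfe _ _ (by rw [proj_add P]; exact inL_sum (proj_mem P x) (proj_mem P y) (hf x) (hf y))
  have hfsmul : ∀ (t : F) x, f (t • x) = t ^ 2 * f x := fun t x =>
    hfe _ _ (by rw [proj_smul P]; exact (h.quad t _ _ (proj_mem P x) (hf x)).1)
  let Q : QuadraticForm F V :=
    { toFun := fun x => C.B x a * C.B x b + f x
      toFun_smul := fun t x => by
        simp only [map_smul, LinearMap.smul_apply, smul_eq_mul, hfsmul]; ring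
      exists_companion' := ⟨C.B, fun x y => by
        simp only [map_add, LinearMap.add_apply, hfadd, ← proj_B P x y]
        ring⟩ }
  have hQ : ∀ x, Q x = C.B x a * C.B x b + f x := fun x => rfl
  have hpol : ∀ x y, polar (⇑Q) x y = C.B x y := fun x y => by
    simp only [polar, hQ, hfadd, map_add, LinearMap.add_apply, ← proj_B P x y]
    ring
  have hQadd : ∀ x y, Q (x + y) = Q x + Q y + C.B x y := fun x y => by rw [QuadraticMap.map_add Q, hpol]
  have hQsmul : ∀ (t : F) x, Q (t • x) = t ^ 2 * Q x := fun t x => by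
    rw [QuadraticMap.map_smul, smul_eq_mul, pow_two]
  have hproja : proj C a b a = 0 := by simp [proj, C.alt, P.ab, ← two_smul F a, two0]
  have hprojb : proj C a b b = 0 := by simp [proj, C.alt, pair_ba P, ← two_smul F b, two0]
  have hQa : Q a = 0 := by rw [hQ, C.alt, zero_mul, zero_add, hfe a 0 (by rw [hproja]; exact inL_one a)]
  have hQb : Q b = 0 := by rw [hQ, C.alt, mul_zero, zero_add, hfe b 0 (by rw [hprojb]; exact inL_one a)]
  have hQW : ∀ v, Perp C a b v → Q v = f v := fun v hv => by
    rw [hQ, symm v a, hv.1, zero_mul, zero_add]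
  -- full vectors are singular
  have hfull : ∀ p, Full C p → Q p = 0 := by
    intro p hp
    by_cases hap : C.B a p = 0
    · rw [hQ, symm p a, hap, zero_mul, zero_add]
      exact hfe _ _ (full_perp P hZ h hp hap)
    · set s := (C.B a p)⁻¹ with hs
      have hsp : C.B a (s • p) = 1 := by rw [map_smul, smul_eq_mul, hs, inv_mul_cancel₀ hap]
      have h1 := hfe _ _ (full_graph P hZ h (full_smul hp (inv_ne_zero hap)) hsp)
      have h2 : Q (s • p) = 0 := by
        rw [hQ, h1, symm (s • p) a, hsp, one_mul, CharTwo.add_self_eq_zero]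
      rw [hQsmul, mul_eq_zero] at h2
      exact h2.resolve_left (pow_ne_zero _ (inv_ne_zero hap))
  -- the form is invariant
  have hinv : ∀ g ∈ C.L, ∀ z, Q (g z) = Q z := by
    intro g hg
    have hadd : ∀ x y, Q (g (x + y)) + Q (x + y) = (Q (g x) + Q x) + (Q (g y) + Q y) := fun x y => by
      rw [map_add, hQadd, hQadd, C.pres g hg]
      linear_combination C.B x y * two0 (F := F)
    have hsmul : ∀ (t : F) x, Q (g (t • x)) + Q (t • x) = t ^ 2 * (Q (g x) + Q x) := fun t x => by
      rw [map_smul, hQsmul, hQsmul]; ring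
    have hzero : ∀ p, Full C p → Q (g p) + Q p = 0 := fun p hp => by
      rw [hfull p hp, hfull _ (full_conj hp hg), add_zero]
    intro z
    have hW : ∀ v, Perp C a b v → Q (g v) + Q v = 0 := by
      intro v hv
      have hm := inL_move (hf v) P.fb
      rw [proj_perp P hv, hv.2, zero_smul, add_zero, pair_ba P, one_smul, mul_one] at hm
      have h1 := hzero _ hm
      rw [hadd, hadd, hsmul, hzero a P.fa, hzero b P.fb, mul_zero, zero_add, add_zero] at h1
      exact h1
    refine CharTwo.add_eq_zero.1 ?_
    have e := proj_spec P z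
    have hw := hW _ (proj_mem P z)
    generalize proj C a b z = w at e hw
    generalize C.B z b = α at e
    generalize C.B z a = β at e
    subst e
    rw [hadd, hadd, hsmul, hsmul, hzero a P.fa, hzero b P.fb, hw]
    simp
  refine ⟨Q, hpol, hinv, hQa, hQb, ?_⟩
  -- singular vectors off one of the two hyperplanes are full
  have hoff : ∀ (x y : V), Pair C x y → Q x = 0 → Q y = 0 →
      (∀ v, Perp C x y v → InL C x v (Q v)) → ∀ p, Q p = 0 → C.B x p ≠ 0 → Full C p := by
    intro x y P' hQx hQy hx p hp hxp
    set s := (C.B x p)⁻¹ with hs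
    have hsp : C.B x (s • p) = 1 := by rw [map_smul, smul_eq_mul, hs, inv_mul_cancel₀ hxp]
    set q := s • p with hq
    have hw := proj_mem P' q
    have h1 := inL_move (hx _ hw) P'.fb
    have hqx : C.B q x = 1 := by rw [symm, hsp]
    have hQq : Q q = 0 := by rw [hq, hQsmul, hp, mul_zero]
    have e : Q (proj C x y q) = C.B q y := by
      simp only [proj, hQadd, hQsmul, hQx, hQy, hQq, map_add, map_smul, LinearMap.add_apply,
        LinearMap.smul_apply, smul_eq_mul, hqx, P'.ab, mul_zero, mul_one, zero_mul, zero_add, add_zero,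
        one_pow, one_smul]
      ring_nf
      simp [two0, three1]
    rw [hw.2, zero_smul, add_zero, pair_ba P', one_smul, mul_one,
      show y + proj C x y q + Q (proj C x y q) • x = q by
        rw [e]; conv_rhs => rw [proj_spec P' q, hqx, one_smul]
        abel] at h1
    have h2 := full_smul h1 (inv_ne_zero (inv_ne_zero hxp))
    rwa [hq, smul_smul, inv_mul_cancel₀ (inv_ne_zero hxp), one_smul] at h2
  have hXa : ∀ v, Perp C a b v → InL C a v (Q v) := fun v hv => by
    have := hf v
    rw [proj_perp P hv] at this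
    rwa [hQW v hv]
  have hXb : ∀ v, Perp C b a v → InL C b v (Q v) := fun v hv =>
    (h.quad 1 v _ ⟨hv.2, hv.1⟩ (hXa v ⟨hv.2, hv.1⟩)).2
  have hsing : ∀ p, p ≠ 0 → Q p = 0 → Full C p := by
    intro p hp0 hp
    by_cases hap : C.B a p = 0
    · by_cases hbp : C.B b p = 0
      · obtain ⟨v, hv, hpv⟩ := perp_partner P ⟨hap, hbp⟩ hp0
        obtain ⟨g, hg, hgx⟩ := hXa v hv
        have hgp : g p = p + a := by simp [hgx, sief, hpv, symm (C := C) p a, hap]
        have hga : g (p + a) = p := by
          rw [map_add, hgp, show g a = a by simp [hgx, sief, hv.1, C.alt], add_assoc, ← two_smul F a, two0,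
            zero_smul, add_zero]
        have h1 := hoff b a (pair_symm P) hQb hQa hXb (p + a)
          (by rw [hQadd, hp, hQa, symm p a, hap]; simp) (by simp [hbp, pair_ba P])
        rw [← hga]
        exact full_conj h1 hg
      · exact hoff b a (pair_symm P) hQb hQa hXb p hp hbp
    · exact hoff a b P hQa hQb hXa p hp hap
  intro p v hp0 hp hpv
  obtain ⟨c, hc⟩ := hsing p hp0 hp v hpv
  obtain ⟨g, hg, hgx⟩ := id hc
  obtain ⟨z, hz⟩ : ∃ z, C.B p z ≠ 0 := by
    by_contra hcon
    push Not at hcon
    exact hp0 (C.nd p hcon)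
  have h1 := hinv g hg z
  simp only [hgx, sief, hQadd, hQsmul, hp, map_add, map_smul, LinearMap.add_apply, LinearMap.smul_apply,
    smul_eq_mul, hpv, C.alt, symm (C := C) v p, symm (C := C) z p, mul_zero, zero_mul, add_zero] at h1
  have h2 : C.B p z ^ 2 * (c + Q v) = 0 := by
    linear_combination h1 - (C.B z v * C.B p z) * two0 (F := F)
  rw [mul_eq_zero, or_iff_right (pow_ne_zero _ hz), CharTwo.add_eq_zero] at h2
  rwa [← h2]

/-- Over a field with more than two elements every pair is regular. -/
theorem regular_of_four [Fintype F] (hZ : NoTv C) (hq : 4 ≤ Fintype.card F) {v : V} (hv : Perp C a b v)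
    (hv0 : v ≠ 0) : Regular C a b := by
  obtain ⟨u, hu⟩ := exists_unit_line P hZ hq hv hv0
  refine ⟨fun δ hδ => pair_unique P hZ hq hv hv0 hδ, fun t w c hw hc => ⟨unit_quad P hZ hu t hw hc, ?_⟩⟩
  simpa using unit_transport P hZ hu one_ne_zero hw hc

/-- Over the field of two elements a pair without a second partner is regular. -/
theorem regular_of_two [Fintype F] (hZ : NoTv C) (hq : Fintype.card F = 2) (hk : ¬ Full C (b + a)) :
    Regular C a b := by
  classical
  have h2 : ∀ t : F, t = 0 ∨ t = 1 := fun t => by
    by_contra hcon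
    push Not at hcon
    have h3 := Finset.card_le_univ ({0, 1, t} : Finset F)
    rw [hq, Finset.card_insert_of_notMem (by simp [Ne.symm hcon.1]),
      Finset.card_pair (Ne.symm hcon.2)] at h3
    omega
  -- a value one on one side forces it on the other
  have key : ∀ a' b' : V, Pair C a' b' → ¬ Full C (b' + a') → ∀ v, Perp C a' b' v → InL C a' v 1 →
      InL C b' v 1 := by
    intro a' b' P' hk' v hv h1
    obtain ⟨d, hd⟩ := P'.fb v hv.2
    rcases h2 d with rfl | rfl
    · exfalso
      have e1 := inL_move h1 P'.fb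
      rw [hv.2, zero_smul, add_zero, pair_ba P', one_smul, one_mul, one_smul] at e1
      have e2 := inL_move hd e1
      refine hk' ?_
      convert e2 using 1
      simp only [map_add, LinearMap.add_apply, hv.1, hv.2, C.alt, P'.ab, symm (C := C) v b', zero_add, add_zero,
        zero_smul, zero_mul, one_smul]
      rw [show b' + v + a' + v = b' + a' + (2 : F) • v by module, two0, zero_smul, add_zero]
    · exact hd
  refine ⟨fun δ hδ => ?_, fun t w c hw hc => ⟨?_, ?_⟩⟩
  · rcases h2 δ with rfl | rfl
    · rfl
    · exact absurd (by simpa using hδ) hk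
  · rcases h2 t with rfl | rfl
    · rw [zero_smul, zero_pow two_ne_zero, zero_mul]; exact inL_one a
    · simpa using hc
  · rcases h2 c with rfl | rfl
    · obtain ⟨d, hd⟩ := P.fb w hw.2
      rcases h2 d with rfl | rfl
      · exact hd
      · have h' := key b a (pair_symm P) (by rwa [add_comm]) w ⟨hw.2, hw.1⟩ hd
        exact absurd (uniq P hZ hw.1 h' hc) one_ne_zero
    · exact key a b P hk w hw hc

end CfsgLib.SpIrred
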