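import Cfsg.Agent.Lib.SpIrred.Basic
import Cfsg.Agent.Lib.SpinorNorm

/-!
Subgroups of symplectic groups in characteristic two, part 4: Siegel transformations generate the kernel of
the Dickson invariant, also in the exceptional four-dimensional case over the field of two elements.
-/

set_option autoImplicit false
set_option linter.unusedSectionVars false

namespace CfsgLib.SpIrred

open QuadraticMap CfsgLib.WittExtension CfsgLib.SpinorNorm Module

variable {F V : Type*} [Field F] [CharP F 2] [AddCommGroup V] [Module F V] [FiniteDimensional F V]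
  (Q : QuadraticForm F V)

/-- Adding a hyperbolic plane. -/
def withPlane : QuadraticForm F (V × (F × F)) :=
  Q.prod (QuadraticMap.linMulLin (LinearMap.fst F F F) (LinearMap.snd F F F))

/-- Isometries extended by the identity of a hyperbolic plane. -/
def extPlane : quadIso Q →* quadIso (withPlane Q) where
  toFun g := ⟨g.1.prodCongr (LinearEquiv.refl F (F × F)), fun z => by
    simp [withPlane, QuadraticMap.prod_apply, g.2 z.1]⟩
  map_one' := Subtype.ext (LinearEquiv.ext fun z => rfl)
  map_mul' g h := Subtype.ext (LinearEquiv.ext fun z => rfl)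

theorem withPlane_nondeg (hQ : (polarBilin Q).Nondegenerate) : (polarBilin (withPlane Q)).Nondegenerate := by
  have h : ∀ x, (∀ y, polar (withPlane Q) x y = 0) → x = 0 := fun x hx => by
    obtain ⟨v, s, t⟩ := x
    have h1 : ∀ (w : V) (k l : F), polar (withPlane Q) (v, s, t) (w, k, l) = polar Q v w + (s * l + k * t) := by
      intro w k l
      simp only [withPlane, polar, QuadraticMap.prod_apply, QuadraticMap.linMulLin_apply, Prod.mk_add_mk,
        LinearMap.fst_apply, LinearMap.snd_apply]
      ring
    have hv : v = 0 := hQ.1 v fun w => by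
      have := hx (w, 0, 0)
      rw [h1] at this
      simpa using this
    have hs := hx (0, 0, 1)
    have ht := hx (0, 1, 0)
    rw [h1, hv] at hs ht
    simp [QuadraticMap.polar] at hs ht
    simp [hv, hs, ht]
  exact ⟨h, fun y hy => h y fun x => by rw [polar_comm]; exact hy x⟩

theorem dickson_extPlane (g : quadIso Q) : dickson (withPlane Q) (extPlane Q g) = dickson Q g := by
  have e : fixSpace (withPlane Q) (extPlane Q g) = (fixSpace Q g).prod (⊤ : Submodule F (F × F)) := by
    ext z
    simp only [mem_fix, Submodule.mem_prod, Submodule.mem_top, and_true]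
    exact ⟨fun h => congrArg Prod.fst h, fun h => Prod.ext h rfl⟩
  have e2 : finrank F (fixSpace (withPlane Q) (extPlane Q g)) = finrank F (fixSpace Q g) + 2 := by
    let e3 : ↥((fixSpace Q g).prod (⊤ : Submodule F (F × F))) ≃ₗ[F] ↥(fixSpace Q g) × (F × F) :=
      { toFun := fun z => (⟨z.1.1, z.2.1⟩, z.1.2)
        invFun := fun z => ⟨(z.1.1, z.2), z.1.2, trivial⟩
        map_add' := fun _ _ => rfl
        map_smul' := fun _ _ => rfl }
    rw [e, LinearEquiv.finrank_eq e3, finrank_prod, finrank_prod, Module.finrank_self]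
  rw [dickson, dickson, e2, finrank_prod, finrank_prod, Module.finrank_self,
    show finrank F V + (1 + 1) + (finrank F ↥(fixSpace Q g) + 2) =
      finrank F V + finrank F ↥(fixSpace Q g) + 2 * 2 by omega, pow_add, pow_mul]
  simp

/-- The Dickson invariant is multiplicative in every case. -/
theorem dickson_mul (hQ : (polarBilin Q).Nondegenerate) (hd : 4 ≤ finrank F V) (g h : quadIso Q) :
    dickson Q (g * h) = dickson Q g * dickson Q h := by
  have hd' : finrank F (V × (F × F)) ≠ 4 := by
    rw [finrank_prod, finrank_prod, Module.finrank_self]; omega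
  have hc := closure_refl (withPlane Q) (withPlane_nondeg Q hQ) (Or.inr hd')
  rw [← dickson_extPlane Q g, ← dickson_extPlane Q h, ← dickson_extPlane Q (g * h), map_mul]
  exact (dicksonHom _ (withPlane_nondeg Q hQ) hc).map_mul _ _

/-- Siegel transformations. -/
def Sieg : Set (quadIso Q) :=
  {g | ∃ p v : V, p ≠ 0 ∧ Q p = 0 ∧ polar Q p v = 0 ∧
    ∀ z, g.1 z = sief (polarBilin Q) p v (Q v) z}

theorem pol_alt (x : V) : polar Q x x = 0 := by
  rw [polar_self, two_nsmul, CharTwo.add_self_eq_zero]

theorem exists_sieg {p v : V} (hp : p ≠ 0) (hQp : Q p = 0) (hpv : polar Q p v = 0) :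
    ∃ g ∈ Sieg Q, ∀ z, g.1 z = sief (polarBilin Q) p v (Q v) z := by
  let f : V →ₗ[F] V := LinearMap.id + ((polarBilin Q).flip v).smulRight p + ((polarBilin Q).flip p).smulRight v +
    (Q v • (polarBilin Q).flip p).smulRight p
  have hf : ∀ z, f z = sief (polarBilin Q) p v (Q v) z := fun z => by simp [f, sief]
  have hff : f ∘ₗ f = LinearMap.id := by
    ext z
    simp only [LinearMap.comp_apply, hf, sief, polarBilin_apply_apply, polar_add_left, polar_smul_left,
      pol_alt, hpv, polar_comm Q v p, smul_eq_mul, LinearMap.id_coe, id_eq]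
    match_scalars <;> ring_nf <;> simp [two0, three1, four0]
  have hiso : LinearEquiv.ofLinearMap f f hff hff ∈ quadIso Q := fun z => by
    show Q (f z) = Q z
    simp only [hf, sief, polarBilin_apply_apply, QuadraticMap.map_add Q, QuadraticMap.map_smul, hQp,
      polar_add_left, polar_smul_left, polar_smul_right, pol_alt, hpv, polar_comm Q v p, smul_eq_mul]
    ring_nf
    simp [two0]
  exact ⟨⟨_, hiso⟩, ⟨p, v, hp, hQp, hpv, hf⟩, hf⟩

theorem dickson_sieg (hQ : (polarBilin Q).Nondegenerate) {g : quadIso Q} (hg : g ∈ Sieg Q) :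
    dickson Q g = 1 := by
  obtain ⟨p, v, hp, hQp, hpv, hgz⟩ := hg
  by_cases hv : ∃ t : F, t • p = v
  · obtain ⟨t, rfl⟩ := hv
    have : g = 1 := Subtype.ext (LinearEquiv.ext fun z => by
      rw [hgz]
      simp only [sief, polarBilin_apply_apply, polar_smul_right, QuadraticMap.map_smul, hQp, smul_eq_mul,
        mul_zero, zero_mul, zero_smul, add_zero, OneMemClass.coe_one, LinearEquiv.coe_one, id_eq]
      rw [add_assoc, smul_smul, ← add_smul, show t * polar Q z p + polar Q z p * t = 0 by
        ring_nf; simp [two0], zero_smul, add_zero])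
    rw [this, dickson_one]
  push Not at hv
  have hli : LinearIndependent F ![p, v] := (LinearIndependent.pair_iff' hp).2 hv
  have e : fixSpace Q g = LinearMap.BilinForm.orthogonal (polarBilin Q) (Submodule.span F (Set.range ![p, v])) := by
    ext z
    rw [mem_fix, hgz, LinearMap.BilinForm.mem_orthogonal_iff]
    constructor
    · intro h x hx
      have h' : (polar Q z v + Q v * polar Q z p) • p + polar Q z p • v = 0 := by
        rw [sief, add_assoc, add_assoc, add_eq_left] at h
        rw [← h]
        simp only [polarBilin_apply_apply]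
        module
      obtain ⟨h1, h2⟩ := LinearIndependent.pair_iff.1 hli _ _ h'
      rw [h2, mul_zero, add_zero] at h1
      induction hx using Submodule.span_induction with
      | mem y hy =>
        obtain ⟨i, rfl⟩ := hy
        fin_cases i <;>
          simp only [LinearMap.IsOrtho, polarBilin_apply_apply, Fin.mk_zero, Fin.mk_one, Fin.isValue,
            Matrix.cons_val_zero, Matrix.cons_val_one, Matrix.cons_val_fin_one]
        · rw [polar_comm]; exact h2
        · rw [polar_comm]; exact h1
      | zero => simp [LinearMap.IsOrtho]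
      | add x y _ _ hx hy => simp_all [LinearMap.IsOrtho, polar_add_left]
      | smul t x _ hx => simp_all [LinearMap.IsOrtho, polar_smul_left]
    · intro h
      have h1 : polar Q p z = 0 := h p (Submodule.subset_span ⟨0, rfl⟩)
      have h2 : polar Q v z = 0 := h v (Submodule.subset_span ⟨1, rfl⟩)
      simp [sief, polar_comm Q z p, polar_comm Q z v, h1, h2]
  rw [dickson, e, LinearMap.BilinForm.finrank_orthogonal hQ, finrank_span_eq_card hli, Fintype.card_fin]
  have h2 : 2 ≤ finrank F V := by
    have := hli.fintype_card_le_finrank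
    simpa using this
  rw [show finrank F V + (finrank F V - 2) = 2 * (finrank F V - 1) by omega, pow_mul]
  simp

variable [Fintype F]

theorem exists_normal {v : V} (hv : Q v ≠ 0) : ∃ w, ∃ hw : Q w ≠ 0, Q w = 1 ∧ refl Q hv = refl Q hw := by
  obtain ⟨r, hr⟩ := sq_exists (Q v)⁻¹
  have hQw : Q (r • v) = 1 := by
    rw [QuadraticMap.map_smul, smul_eq_mul, ← pow_two, hr, inv_mul_cancel₀ hv]
  refine ⟨r • v, by rw [hQw]; exact one_ne_zero, hQw, Subtype.ext (LinearEquiv.ext fun u => ?_)⟩
  rw [refl_apply, refl_apply, polar_smul_left, hQw, smul_smul, smul_eq_mul]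
  congr 2
  rw [← hr]; ring

variable {a b : V} (hQ : (polarBilin Q).Nondegenerate) (ha : Q a = 0) (hb : Q b = 0) (hab : polar Q a b = 1)
  (hbig : ∀ x y : V, ∃ w : V, w ≠ 0 ∧ polar Q x w = 0 ∧ polar Q y w = 0)

theorem refl_edge {v p : V} (hv : Q v = 1) (hp : p ≠ 0) (hQp : Q p = 0) (hpv : polar Q p v = 0)
    (hv' : Q v ≠ 0) (hvp : Q (v + p) ≠ 0) :
    refl Q hv' * refl Q hvp ∈ Subgroup.closure (Sieg Q) := by
  obtain ⟨g, hg, hgz⟩ := exists_sieg Q hp hQp hpv
  have hQvp : Q (v + p) = 1 := by rw [QuadraticMap.map_add Q, hv, hQp, polar_comm, hpv]; simp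
  suffices refl Q hv' * refl Q hvp = g from this ▸ Subgroup.subset_closure hg
  refine Subtype.ext (LinearEquiv.ext fun z => ?_)
  show (refl Q hv').1 ((refl Q hvp).1 z) = g.1 z
  simp only [refl_apply, hgz, sief, polarBilin_apply_apply, hv, hQvp, inv_one, one_mul, CharTwo.neg_eq,
    polar_add_left, polar_add_right, polar_smul_right, pol_alt, polar_comm Q z v, polar_comm Q z p,
    polar_comm Q v p, hpv, smul_eq_mul]
  match_scalars <;> ring_nf <;> simp [two0]

include hQ hbig in
/-- Any two reflections differ by products of Siegel transformations. -/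
theorem refl_pair {x y : V} (hx : Q x ≠ 0) (hy : Q y ≠ 0) :
    refl Q hx * refl Q hy ∈ Subgroup.closure (Sieg Q) := by
  obtain ⟨v, hv', hv, ev⟩ := exists_normal Q hx
  obtain ⟨w, hw', hw, ew⟩ := exists_normal Q hy
  rw [ev, ew]
  have edge : ∀ (v w : V) (hv' : Q v ≠ 0) (hw' : Q w ≠ 0), Q v = 1 → Q w = 1 → polar Q v w = 0 →
      refl Q hv' * refl Q hw' ∈ Subgroup.closure (Sieg Q) := by
    intro v w hv' hw' hv hw hvw
    by_cases hd : v = w
    · subst hd; rw [refl_mul_self]; exact one_mem _
    have hne : v + w ≠ 0 := fun e => hd (by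
      have e1 : v = -w := eq_neg_of_add_eq_zero_left e
      rw [e1, ← neg_one_smul F w, CharTwo.neg_eq, one_smul])
    have hQd : Q (v + w) = 0 := by rw [QuadraticMap.map_add Q, hv, hw, hvw]; simp [CharTwo.add_self_eq_zero]
    have hvd : polar Q (v + w) v = 0 := by rw [polar_add_left, pol_alt, polar_comm, hvw]; simp
    have e2 : v + (v + w) = w := by rw [← add_assoc, ← two_smul F v, two0, zero_smul, zero_add]
    have hvp : Q (v + (v + w)) ≠ 0 := by rw [e2]; exact hw'
    have h := refl_edge Q hv hne hQd hvd hv' hvp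
    have : refl Q hvp = refl Q hw' := by congr 1
    rwa [this] at h
  by_cases hvw : polar Q v w = 0
  · exact edge v w hv' hw' hv hw hvw
  obtain ⟨z0, hz0, hz1, hz2⟩ := hbig v w
  have hz3 : ∃ z, polar Q v z = 0 ∧ polar Q w z = 0 ∧ Q z ≠ 0 := by
    by_cases h : Q z0 ≠ 0
    · exact ⟨z0, hz1, hz2, h⟩
    push Not at h
    obtain ⟨y, hy⟩ : ∃ y, polar Q z0 y ≠ 0 := by
      by_contra hcon
      push Not at hcon
      exact hz0 (hQ.1 z0 hcon)
    set s := (polar Q v w)⁻¹ with hs
    set y' := y + (s * polar Q w y) • v + (s * polar Q v y) • w with hy'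
    have h1 : polar Q v y' = 0 := by
      simp only [hy', polar_add_right, polar_smul_right, pol_alt, smul_eq_mul, mul_zero, add_zero]
      rw [hs]; field_simp; ring_nf; simp [two0]
    have h2 : polar Q w y' = 0 := by
      simp only [hy', polar_add_right, polar_smul_right, pol_alt, smul_eq_mul, mul_zero, add_zero,
        polar_comm Q w v]
      rw [hs]; field_simp; ring_nf; simp [two0]
    have h3 : polar Q z0 y' = polar Q z0 y := by
      simp [hy', polar_add_right, polar_smul_right, polar_comm Q z0 v, polar_comm Q z0 w, hz1, hz2]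
    by_cases h4 : Q y' ≠ 0
    · exact ⟨y', h1, h2, h4⟩
    push Not at h4
    refine ⟨z0 + y', by simp [polar_add_right, hz1, h1], by simp [polar_add_right, hz2, h2], ?_⟩
    rw [QuadraticMap.map_add Q, h, h4, h3]
    simpa using hy
  obtain ⟨z, hz1, hz2, hz3⟩ := hz3
  obtain ⟨r, hr⟩ := sq_exists (Q z)⁻¹
  have hrz : Q (r • z) = 1 := by
    rw [QuadraticMap.map_smul, smul_eq_mul, ← pow_two, hr, inv_mul_cancel₀ hz3]
  have hrz' : Q (r • z) ≠ 0 := by rw [hrz]; exact one_ne_zero
  have := mul_mem (edge v (r • z) hv' hrz' hv hrz (by rw [polar_smul_right, hz1, smul_zero]))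
    (edge (r • z) w hrz' hw' hrz hw (by rw [polar_smul_left, polar_comm, hz2, smul_zero]))
  rwa [mul_assoc, ← mul_assoc (refl Q hrz'), refl_mul_self, one_mul] at this

include hQ ha hb hab hbig in
/-- The isometries are generated by Siegel transformations and reflections. -/
theorem closure_sieg_refl (hd : finrank F V ≠ 4 ∨ Fintype.card F ≠ 2 ∨ ∀ z, polar Q a z = 0 → polar Q b z = 0 →
    z ≠ 0 → ∀ y, polar Q a y = 0 → polar Q b y = 0 → polar Q z y ≠ 0 →
      ∀ w, polar Q a w = 0 → polar Q b w = 0 → w ∈ Submodule.span F {z, y}) :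
    Subgroup.closure (Sieg Q ∪ Refl Q) = ⊤ := by
  have hle : Subgroup.closure (Refl Q) ≤ Subgroup.closure (Sieg Q ∪ Refl Q) :=
    Subgroup.closure_mono Set.subset_union_right
  by_cases h : (∃ t : F, t ≠ 0 ∧ t ≠ 1) ∨ finrank F V ≠ 4
  · rw [closure_refl Q hQ h, top_le_iff] at hle
    exact hle
  push Not at h
  have h2 : ∀ t : F, t = 0 ∨ t = 1 := fun t => (em (t = 0)).imp id (h.1 t)
  replace hd : ∀ z, polar Q a z = 0 → polar Q b z = 0 → z ≠ 0 → ∀ y, polar Q a y = 0 → polar Q b y = 0 →
      polar Q z y ≠ 0 → ∀ w, polar Q a w = 0 → polar Q b w = 0 → w ∈ Submodule.span F {z, y} := by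
    rcases hd with hd | hd | hd
    · exact absurd h.2 hd
    · exfalso
      apply hd
      classical
      rw [← Finset.card_univ, show (Finset.univ : Finset F) = {0, 1} by ext t; simpa using h2 t,
        Finset.card_pair zero_ne_one]
    · exact hd
  set H := Subgroup.closure (Sieg Q ∪ Refl Q) with hH
  have hR : ∀ {v : V} (hv : Q v ≠ 0), refl Q hv ∈ H := fun hv =>
    Subgroup.subset_closure (Or.inr ⟨_, hv, rfl⟩)
  have hrefl : ∀ {u u' : V}, Q u = 0 → Q u' = 0 → polar Q u u' = 1 → ∃ g ∈ H, g.1 u = u' := by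
    intro u u' h1 h1' h3
    have hne : Q (u + u') ≠ 0 := by rw [QuadraticMap.map_add Q, h1, h1', h3]; simp
    refine ⟨_, hR hne, ?_⟩
    rw [refl_apply, polar_add_left, pol_alt, polar_comm Q u' u, h3, QuadraticMap.map_add Q, h1, h1', h3]
    simp only [zero_add, inv_one, one_mul, CharTwo.neg_eq, one_smul]
    rw [← add_assoc, ← two_smul F u, two0, zero_smul, zero_add]
  have hone : ∀ {t : F}, t ≠ 0 → t = 1 := fun ht => (h2 _).resolve_left ht
  rw [eq_top_iff]
  rintro g -
  -- move the first vector back
  obtain ⟨g₁, hg₁, hg₁a⟩ : ∃ g₁ ∈ H, g₁.1 a = g.1 a := by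
    have hz : Q (g.1 a) = 0 := by rw [g.2]; exact ha
    have hz0 : g.1 a ≠ 0 := fun e => by
      have : a = 0 := g.1.map_eq_zero_iff.1 e
      rw [this, polar, zero_add, QuadraticMap.map_zero] at hab
      simp at hab
    set z := g.1 a
    by_cases h1 : polar Q a z = 0
    · obtain ⟨r, hr, hr1, hr2⟩ : ∃ r, Q r = 0 ∧ polar Q a r = 1 ∧ polar Q r z = 1 := by
        by_cases h3 : polar Q b z = 0
        · obtain ⟨y, hy⟩ : ∃ y, polar Q z y ≠ 0 := by
            by_contra hcon
            push Not at hcon
            exact hz0 (hQ.1 z hcon)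
          set v := y + polar Q b y • a + polar Q a y • b with hv
          have hav : polar Q a v = 0 := by
            simp [hv, polar_add_right, polar_smul_right, pol_alt, two0, hab, CharTwo.add_self_eq_zero]
          have hbv : polar Q b v = 0 := by
            simp [hv, polar_add_right, polar_smul_right, pol_alt, two0, polar_comm Q b a, hab,
              CharTwo.add_self_eq_zero]
          have hzv : polar Q z v = 1 := hone (by
            simpa [hv, polar_add_right, polar_smul_right, polar_comm Q z a, polar_comm Q z b, h1, h3] using hy)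
          refine ⟨b + v + Q v • a, ?_, ?_, ?_⟩
          · simp [QuadraticMap.map_add Q, QuadraticMap.map_smul, ha, hb, hbv, polar_add_left, polar_smul_right,
              polar_comm Q b a, hab, polar_comm Q v a, hav, CharTwo.add_self_eq_zero]
          · simp [polar_add_right, polar_smul_right, hab, hav, pol_alt, two0, ha]
          · simp [polar_add_left, polar_smul_left, h3, polar_comm Q v z, hzv, h1]
        · exact ⟨b, hb, hab, hone h3⟩
      obtain ⟨k, hk, hka⟩ := hrefl ha hr hr1
      obtain ⟨k', hk', hkr⟩ := hrefl hr hz hr2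
      exact ⟨k' * k, mul_mem hk' hk, by show k'.1 (k.1 a) = z; rw [hka, hkr]⟩
    · exact hrefl ha hz (hone h1)
  suffices g₁⁻¹ * g ∈ H by simpa using mul_mem hg₁ this
  clear_value H
  set g' := g₁⁻¹ * g with hg'
  have hg'a : g'.1 a = a := by
    show g₁.1.symm (g.1 a) = a
    rw [← hg₁a, LinearEquiv.symm_apply_apply]
  clear_value g'
  clear hg' hg₁a hg₁ g₁ g
  -- move the second vector back
  have hpol : ∀ (k : quadIso Q) x y, polar Q (k.1 x) (k.1 y) = polar Q x y := fun k x y =>
    OrthOrder.polar_map k.2 x y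
  set v := g'.1 b + b + polar Q b (g'.1 b) • a with hv
  have hab' : polar Q a (g'.1 b) = 1 := by
    conv_lhs => rw [← hg'a]
    rw [hpol, hab]
  have hav : polar Q a v = 0 := by
    simp [hv, polar_add_right, polar_smul_right, pol_alt, two0, ha, hab, hab', CharTwo.add_self_eq_zero]
  have ha0 : a ≠ 0 := fun e => by
    rw [e, polar, zero_add, QuadraticMap.map_zero] at hab
    simp at hab
  obtain ⟨k, hk, hkz⟩ := exists_sieg Q ha0 ha hav
  have hkH : k ∈ H := hH ▸ Subgroup.subset_closure (Or.inl hk)
  have hQv : Q v = polar Q b (g'.1 b) := by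
    simp only [hv, QuadraticMap.map_add Q, QuadraticMap.map_smul, g'.2 b, hb, ha, polar_add_left,
      polar_smul_right, polar_comm Q (g'.1 b) b, polar_comm Q (g'.1 b) a, polar_comm Q b a, hab, hab',
      smul_eq_mul]
    ring_nf
    simp [two0, three1]
  have hkb : k.1 b = g'.1 b := by
    rw [hkz, sief, hQv, hv]
    simp only [polarBilin_apply_apply, polar_add_right, polar_smul_right, pol_alt, polar_comm Q b a, hab,
      smul_eq_mul, mul_one, mul_zero, add_zero]
    match_scalars <;> ring_nf <;> simp [two0, three1, four0]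
  have hka : k.1 a = a := by
    rw [hkz, sief]; simp [hav, pol_alt, two0, ha]
  suffices k⁻¹ * g' ∈ H by simpa using mul_mem hkH this
  set g'' := k⁻¹ * g' with hg''
  have hga : g''.1 a = a := by
    show k.1.symm (g'.1 a) = a
    rw [hg'a]; exact (LinearEquiv.symm_apply_eq _).2 hka.symm
  have hgb : g''.1 b = b := by
    show k.1.symm (g'.1 b) = b
    rw [← hkb, LinearEquiv.symm_apply_apply]
  clear_value g''
  clear hg'' hka hkb hQv hkH hk hkz k hav hab' hv v hg'a g'
  -- the plane
  obtain ⟨z, hz0, hz1, hz2⟩ := hbig a b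
  obtain ⟨y, hy⟩ : ∃ y, polar Q z y ≠ 0 := by
    by_contra hcon
    push Not at hcon
    exact hz0 (hQ.1 z hcon)
  set y' := y + polar Q b y • a + polar Q a y • b with hy'
  have hy1 : polar Q a y' = 0 := by
    simp [hy', polar_add_right, polar_smul_right, pol_alt, two0, hab, CharTwo.add_self_eq_zero]
  have hy2 : polar Q b y' = 0 := by
    simp [hy', polar_add_right, polar_smul_right, pol_alt, two0, polar_comm Q b a, hab, CharTwo.add_self_eq_zero]
  have hzy : polar Q z y' = 1 := hone (by
    simpa [hy', polar_add_right, polar_smul_right, polar_comm Q z a, polar_comm Q z b, hz1, hz2] using hy)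
  have hspan := hd z hz1 hz2 hz0 y' hy1 hy2 (by rw [hzy]; exact one_ne_zero)
  have hperp : ∀ (k : quadIso Q), k.1 a = a → k.1 b = b → ∀ w, polar Q a w = 0 → polar Q b w = 0 →
      k.1 w ∈ Submodule.span F {z, y'} := fun k h1 h2 w hw1 hw2 =>
    hspan _ (by rw [← h1, hpol, hw1]) (by rw [← h2, hpol, hw2])
  -- a reflection moving one vector of the plane
  have hmove : ∀ (k : quadIso Q), k.1 a = a → k.1 b = b → ∀ w, polar Q a w = 0 → polar Q b w = 0 → k.1 w ≠ w →
      polar Q w (k.1 w) ≠ 0 → ∃ r ∈ H, r.1 a = a ∧ r.1 b = b ∧ r.1 w = k.1 w ∧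
        ∀ x, polar Q (w + k.1 w) x = 0 → r.1 x = x := by
    intro k h1 h2 w hw1 hw2 hkw hne
    have hQd : Q (w + k.1 w) ≠ 0 := by
      rw [QuadraticMap.map_add Q, k.2 w, CharTwo.add_self_eq_zero, zero_add]; exact hne
    have hmem : refl Q hQd ∈ Subgroup.closure (Sieg Q ∪ Refl Q) :=
      Subgroup.subset_closure (Or.inr ⟨_, hQd, rfl⟩)
    rw [← hH] at hmem
    refine ⟨_, hmem, ?_, ?_, ?_, fun x hx => ?_⟩
    · rw [refl_apply, polar_comm, polar_add_right, hw1, ← h1, hpol, hw1]; simp
    · rw [refl_apply, polar_comm, polar_add_right, hw2, ← h2, hpol, hw2]; simp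
    · rw [refl_apply, polar_add_left, pol_alt, QuadraticMap.map_add Q, k.2 w, CharTwo.add_self_eq_zero,
        zero_add, zero_add, polar_comm Q (k.1 w) w, inv_mul_cancel₀ hne, CharTwo.neg_eq, one_smul, ← add_assoc,
        ← two_smul F w, two0, zero_smul, zero_add]
    · rw [refl_apply, hx]; simp
  obtain ⟨r, hr, hra, hrb, hrz⟩ : ∃ r ∈ H, r.1 a = a ∧ r.1 b = b ∧ r.1 z = g''.1 z := by
    by_cases hgz : g''.1 z = z
    · exact ⟨1, one_mem _, rfl, rfl, hgz.symm⟩
    have hne : polar Q z (g''.1 z) ≠ 0 := by
      obtain ⟨p, q, hpq⟩ := Submodule.mem_span_pair.1 (hperp g'' hga hgb z hz1 hz2)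
      rw [← hpq, polar_add_right, polar_smul_right, polar_smul_right, pol_alt, hzy]
      simp only [smul_eq_mul, mul_zero, mul_one, zero_add]
      intro hq
      rw [hq, zero_smul, add_zero] at hpq
      rcases h2 p with hp | hp
      · rw [hp, zero_smul] at hpq
        exact hz0 (g''.1.map_eq_zero_iff.1 hpq.symm)
      · rw [hp, one_smul] at hpq
        exact hgz hpq.symm
    obtain ⟨r, hr, h1, h2, h3, -⟩ := hmove g'' hga hgb z hz1 hz2 hgz hne
    exact ⟨r, hr, h1, h2, h3⟩
  suffices r⁻¹ * g'' ∈ H by simpa using mul_mem hr this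
  set k := r⁻¹ * g'' with hk
  have hka : k.1 a = a := by
    show r.1.symm (g''.1 a) = a
    rw [hga]; exact (LinearEquiv.symm_apply_eq _).2 hra.symm
  have hkb : k.1 b = b := by
    show r.1.symm (g''.1 b) = b
    rw [hgb]; exact (LinearEquiv.symm_apply_eq _).2 hrb.symm
  have hkz : k.1 z = z := by
    show r.1.symm (g''.1 z) = z
    rw [← hrz, LinearEquiv.symm_apply_apply]
  clear_value k
  clear hk hrz hra hrb hr r hga hgb g''
  obtain ⟨p, q, hpq⟩ := Submodule.mem_span_pair.1 (hperp k hka hkb y' hy1 hy2)
  have hq : q = 1 := by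
    have := hpol k z y'
    rw [hkz, ← hpq, polar_add_right, polar_smul_right, polar_smul_right, pol_alt, hzy] at this
    simpa using this
  subst hq
  rw [one_smul] at hpq
  have hall : ∀ (k : quadIso Q), k.1 a = a → k.1 b = b → k.1 z = z → k.1 y' = y' → k = 1 := by
    intro k h1 h2 h3 h4
    refine Subtype.ext (LinearEquiv.ext fun x => ?_)
    obtain ⟨s, t, hst⟩ := Submodule.mem_span_pair.1 (hspan (x + polar Q b x • a + polar Q a x • b)
      (by simp [polar_add_right, polar_smul_right, pol_alt, two0, hab, CharTwo.add_self_eq_zero])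
      (by simp [polar_add_right, polar_smul_right, pol_alt, two0, polar_comm Q b a, hab,
        CharTwo.add_self_eq_zero]))
    have hx : x = s • z + t • y' + polar Q b x • a + polar Q a x • b := by
      rw [hst]
      match_scalars <;> ring_nf <;> simp [two0]
    show k.1 x = x
    conv_rhs => rw [hx]
    conv_lhs => rw [hx]
    simp only [map_add, map_smul, h1, h2, h3, h4]
  rcases h2 p with hp | hp
  · rw [hp, zero_smul, zero_add] at hpq
    rw [hall k hka hkb hkz hpq.symm]
    exact one_mem _
  · rw [hp, one_smul] at hpq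
    have hne : polar Q y' (k.1 y') ≠ 0 := by
      rw [← hpq, polar_add_right, pol_alt, add_zero, polar_comm, hzy]; exact one_ne_zero
    obtain ⟨r, hr, h1, h2', h3, h4⟩ := hmove k hka hkb y' hy1 hy2 (fun e => hne (by rw [e, pol_alt])) hne
    have hrz : r.1 z = z := h4 z (by
      rw [← hpq, ← add_assoc, add_comm y' z, add_assoc, ← two_smul F y', two0, zero_smul, add_zero, pol_alt])
    have : r⁻¹ * k = 1 := hall _
      (by show r.1.symm (k.1 a) = a; rw [hka]; exact (LinearEquiv.symm_apply_eq _).2 h1.symm)
      (by show r.1.symm (k.1 b) = b; rw [hkb]; exact (LinearEquiv.symm_apply_eq _).2 h2'.symm)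
      (by show r.1.symm (k.1 z) = z; rw [hkz]; exact (LinearEquiv.symm_apply_eq _).2 hrz.symm)
      (by show r.1.symm (k.1 y') = y'; rw [← h3, LinearEquiv.symm_apply_apply])
    rw [inv_mul_eq_one] at this
    rw [← this]; exact hr

include hQ hbig in
/-- The Siegel transformations generate the kernel of the Dickson invariant. -/
theorem mem_sieg_iff (hV : 4 ≤ finrank F V) (hgen : Subgroup.closure (Sieg Q ∪ Refl Q) = ⊤) {x : V}
    (hx : Q x ≠ 0) (g : quadIso Q) :
    (dickson Q g = 1 → g ∈ Subgroup.closure (Sieg Q)) ∧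
      (dickson Q g ≠ 1 → refl Q hx * g ∈ Subgroup.closure (Sieg Q)) := by
  set M := Subgroup.closure (Sieg Q) with hM
  have hdM : ∀ m ∈ M, dickson Q m = 1 := by
    intro m hm
    induction hm using Subgroup.closure_induction with
    | mem y hy => exact dickson_sieg Q hQ hy
    | one => exact dickson_one Q
    | mul y z _ _ hy hz => rw [dickson_mul Q hQ hV, hy, hz, one_mul]
    | inv y _ hy =>
      have := dickson_mul Q hQ hV y⁻¹ y
      rw [inv_mul_cancel, dickson_one, hy, mul_one] at this
      exact this.symm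
  have hdR : dickson Q (refl Q hx) = -1 := by
    rw [← mul_one (refl Q hx), dickson_refl_mul Q hQ hx, dickson_one]
  have main : g ∈ M ∨ refl Q hx * g ∈ M := by
    have hg : g ∈ Subgroup.closure (Sieg Q ∪ Refl Q) := hgen ▸ trivial
    have sS : ∀ (s : quadIso Q), s ∈ Sieg Q → refl Q hx * s * refl Q hx ∈ M := by
      rintro s ⟨p, v, hp, hQp, hpv, hs⟩
      set r := refl Q hx
      have hpol : ∀ y z, polar Q (r.1 y) (r.1 z) = polar Q y z := fun y z => OrthOrder.polar_map r.2 y z
      obtain ⟨t, ht, htz⟩ := exists_sieg Q (p := r.1 p) (v := r.1 v)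
        (fun e => hp (r.1.map_eq_zero_iff.1 e)) (by rw [r.2]; exact hQp) (by rw [hpol]; exact hpv)
      suffices r * s * r = t from this ▸ Subgroup.subset_closure ht
      refine Subtype.ext (LinearEquiv.ext fun z => ?_)
      show r.1 (s.1 (r.1 z)) = t.1 z
      have hrr : r.1 (r.1 z) = z := congrArg (fun k : quadIso Q => k.1 z) (refl_mul_self Q hx)
      have hrr' : ∀ y, polar Q (r.1 z) y = polar Q z (r.1 y) := fun y => by
        conv_rhs => rw [← hrr, hpol]
      rw [hs, htz, sief, sief]
      simp only [map_add, map_smul, hrr, polarBilin_apply_apply, hrr', r.2 v]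
    induction hg using Subgroup.closure_induction_left with
    | one => exact Or.inl (one_mem _)
    | mul_left s hs y _ ih =>
      rcases hs with hs | ⟨v, hv, rfl⟩
      · rcases ih with h | h
        · exact Or.inl (mul_mem (Subgroup.subset_closure hs) h)
        · refine Or.inr ?_
          have := mul_mem (sS s hs) h
          rwa [mul_assoc, ← mul_assoc (refl Q hx) (refl Q hx), refl_mul_self, one_mul, mul_assoc] at this
      · rcases ih with h | h
        · exact Or.inr (by rw [← mul_assoc]; exact mul_mem (refl_pair Q hQ hbig hx hv) h)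
        · refine Or.inl ?_
          have := mul_mem (refl_pair Q hQ hbig hv hx) h
          rwa [mul_assoc, ← mul_assoc (refl Q hx) (refl Q hx), refl_mul_self, one_mul] at this
    | inv_mul_cancel s hs y _ ih =>
      have hs1 : s⁻¹ = s := by
        rcases hs with ⟨p, v, hp, hQp, hpv, hs⟩ | ⟨v, hv, rfl⟩
        · refine inv_eq_of_mul_eq_one_right (Subtype.ext (LinearEquiv.ext fun z => ?_))
          show s.1 (s.1 z) = z
          simp only [hs, sief, polarBilin_apply_apply, polar_add_left, polar_smul_left, pol_alt, hpv,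
            polar_comm Q v p, smul_eq_mul]
          match_scalars <;> ring_nf <;> simp [two0, three1, four0]
        · exact refl_inv Q hv
      rw [hs1]
      rcases hs with hs | ⟨v, hv, rfl⟩
      · rcases ih with h | h
        · exact Or.inl (mul_mem (Subgroup.subset_closure hs) h)
        · refine Or.inr ?_
          have := mul_mem (sS s hs) h
          rwa [mul_assoc, ← mul_assoc (refl Q hx) (refl Q hx), refl_mul_self, one_mul, mul_assoc] at this
      · rcases ih with h | h
        · exact Or.inr (by rw [← mul_assoc]; exact mul_mem (refl_pair Q hQ hbig hx hv) h)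
        · refine Or.inl ?_
          have := mul_mem (refl_pair Q hQ hbig hv hx) h
          rwa [mul_assoc, ← mul_assoc (refl Q hx) (refl Q hx), refl_mul_self, one_mul] at this
  refine ⟨fun hg => main.resolve_right fun h => ?_, fun hg => main.resolve_left fun h => hg (hdM g h)⟩
  have := hdM _ h
  rw [dickson_mul Q hQ hV, hdR, hg, mul_one] at this
  exact absurd this (by decide)

end CfsgLib.SpIrred
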