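import Cfsg.Agent.Lib.SpIrred.Transv

/-!
Subgroups of symplectic groups in characteristic two, part 3: without transvections at full vectors the
parameters of the root elements form a quadratic form.
-/

set_option autoImplicit false
set_option linter.unusedSectionVars false

namespace CfsgLib.SpIrred

variable {F V : Type*} [Field F] [CharP F 2] [AddCommGroup V] [Module F V] {C : Ctx F V}

/-- No transvection is centred at a full vector. -/
def NoTv (C : Ctx F V) : Prop := ∀ p : V, p ≠ 0 → Full C p → ∀ c : F, InL C p 0 c → c = 0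

/-- The parameters along a line are the squares. -/
def UnitLine (C : Ctx F V) (a b u : V) : Prop :=
  Perp C a b u ∧ ∀ t : F, InL C a (t • u) (t ^ 2) ∧ InL C b (t • u) (t ^ 2)

theorem hua' {a b : V} {u : V} (hu : Perp C a b u) : C.B u a = 0 ∧ C.B u b = 0 :=
  ⟨by rw [symm, hu.1], by rw [symm, hu.2]⟩

/-- Sums inside the complement. -/
theorem inL_sum {a b v w : V} {c d : F} (hv : Perp C a b v) (hw : Perp C a b w) (h1 : InL C a v c)
    (h2 : InL C a w d) : InL C a (v + w) (c + d + C.B w v) := inL_mul hv.1 hw.1 h1 h2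

variable {a b : V} (P : Pair C a b) (hZ : NoTv C)
include P hZ

theorem uniq {v : V} {c d : F} (hv : C.B a v = 0) (h1 : InL C a v c) (h2 : InL C a v d) : c = d :=
  CharTwo.add_eq_zero.1 (hZ a (pair_ne_zero P) P.fa _ (inL_diff hv h1 h2))

/-- A transvection in the complement fixes the parameters along its line. -/
theorem tv_line {u : V} (hu : Perp C a b u) (hu0 : u ≠ 0) {e : F} (he : e ≠ 0) (h : InL C u 0 e) (μ : F) :
    InL C a (μ • u) (μ ^ 2 / e) ∧ InL C b (μ • u) (μ ^ 2 / e) := by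
  obtain ⟨v, hv, huv⟩ := perp_partner P hu hu0
  exact ⟨line_of_tv P.fa hu.1 hv.1 huv he h μ, line_of_tv P.fb hu.2 hv.2 huv he h μ⟩

theorem tv_contra {u : V} (hu : Perp C a b u) (hu0 : u ≠ 0) {e : F} (he : e ≠ 0) (h : InL C u 0 e)
    (hz : InL C a u 0) : False := by
  have h1 := (tv_line P hZ hu hu0 he h 1).1
  rw [one_smul, one_pow] at h1
  exact one_div_ne_zero he (uniq P hZ hu.1 h1 hz)

variable [Fintype F]

/-- A zero parameter makes the whole line zero. -/
theorem zero_line {u : V} (hu : Perp C a b u) (hz : InL C a u 0) (μ : F) : InL C a (μ • u) 0 := by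
  by_cases hu0 : u = 0
  · rw [hu0, smul_zero]; exact inL_one a
  obtain ⟨c, hx⟩ := P.fa (μ • u) (by rw [map_smul, hu.1, smul_zero])
  suffices hc : c = 0 by rwa [hc] at hx
  by_contra hc
  by_cases hy : ∃ ν d : F, d ≠ 0 ∧ InL C b (ν • u) d
  · obtain ⟨ν, d, hd, hy⟩ := hy
    exact tv_contra P hZ hu hu0 (inv_ne_zero hc) (closure_tv P hu hc hd hz hx hy) hz
  push Not at hy
  obtain ⟨hua, hub⟩ := hua' hu
  obtain ⟨d, hd⟩ := P.fb (c⁻¹ • u) (by rw [map_smul, hu.2, smul_zero])
  have hd0 : d = 0 := by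
    by_contra h
    exact hy _ d h hd
  rw [hd0] at hd
  have h1 : InL C u (c⁻¹ • b) 0 := inL_swap (inL_smul_left _ (inv_ne_zero hc) hd)
  obtain ⟨k, hk, hkx⟩ := id hx
  have h2 := inL_conj h1 hk
  rw [hkx, map_smul, hkx,
    show sief C.B a (μ • u) c u = u by simp [sief, C.alt, hua],
    show sief C.B a (μ • u) c b = b + μ • u + c • a by simp [sief, hu.2, pair_ba P],
    show c⁻¹ • (b + μ • u + c • a) = (c⁻¹ • b + (c⁻¹ * c) • a) + (c⁻¹ * μ) • u by module, inL_shift_iff,
    inv_mul_cancel₀ hc, one_smul] at h2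
  have h3 := inL_mul (by simp [hua, hub]) (by simp [hub]) h2 h1
  rw [show c⁻¹ • b + a + c⁻¹ • b = a by
      rw [add_comm (c⁻¹ • b) a, add_assoc, ← two_smul F (c⁻¹ • b), two0, zero_smul, add_zero],
    show (0 : F) + 0 + C.B (c⁻¹ • b) (c⁻¹ • b + a) = c⁻¹ by simp [C.alt, pair_ba P]] at h3
  have h4 := inL_mul (by simp [hua]) (by simp [hua]) h3 (inL_swap hz)
  simp only [C.alt, add_zero, ← two_smul F a, two0, zero_smul] at h4
  exact tv_contra P hZ hu hu0 (inv_ne_zero hc) h4 hz

/-- A nonzero parameter makes the parameters along the line a bijection. -/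
theorem line_surj {u : V} (hu : Perp C a b u) {c : F} (hc : c ≠ 0) (h : InL C a u c) (c' : F) :
    ∃ μ : F, InL C a (μ • u) c' := by
  choose f hf using fun μ : F => P.fa (μ • u) (by rw [map_smul, hu.1, smul_zero])
  have hinj : Function.Injective f := by
    intro μ μ' he
    by_contra hne
    have h1 := inL_sum (perp_smul P hu μ) (perp_smul P hu μ') (hf μ) (hf μ')
    simp only [map_smul, LinearMap.smul_apply, C.alt, smul_zero, add_zero, ← add_smul, he,
      CharTwo.add_self_eq_zero] at h1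
    have hs : μ + μ' ≠ 0 := fun e => hne (CharTwo.add_eq_zero.1 e)
    have h2 := zero_line P hZ (perp_smul P hu _) h1 (μ + μ')⁻¹
    rw [smul_smul, inv_mul_cancel₀ hs, one_smul] at h2
    exact hc (uniq P hZ hu.1 h h2)
  obtain ⟨μ, hμ⟩ := (Finite.injective_iff_bijective.1 hinj).2 c'
  exact ⟨μ, hμ ▸ hf μ⟩

/-- A line with nonzero parameters on both sides can be scaled to a unit line. -/
theorem unit_line {u : V} (hu : Perp C a b u) {c₀ d₀ : F} (hc₀ : c₀ ≠ 0) (hd₀ : d₀ ≠ 0)
    (hx₀ : InL C a u c₀) (hy₀ : InL C b u d₀) : ∃ s : F, s ≠ 0 ∧ UnitLine C a b (s • u) := by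
  have hu0 : u ≠ 0 := by
    rintro rfl
    exact hc₀ (uniq P hZ (map_zero _) hx₀ (inL_one a))
  suffices H : ∃ κ : F, κ ≠ 0 ∧ ∀ t : F, InL C a (t • u) (κ * t ^ 2) ∧ InL C b (t • u) (κ * t ^ 2) by
    obtain ⟨κ, hκ, H⟩ := H
    obtain ⟨r, hr⟩ := sq_exists κ⁻¹
    refine ⟨r, fun h => ?_, perp_smul P hu r, fun t => ?_⟩
    · rw [h, zero_pow two_ne_zero, eq_comm, inv_eq_zero] at hr
      exact hκ hr
    · rw [smul_smul]
      have h1 := H (t * r)
      rwa [mul_pow, hr, mul_left_comm, mul_inv_cancel₀ hκ, mul_one] at h1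
  have hu' : Perp C b a u := ⟨hu.2, hu.1⟩
  have Ps := pair_symm P
  choose m hm using line_surj P hZ hu hc₀ hx₀
  choose n hn using line_surj Ps hZ hu' hd₀ hy₀
  obtain ⟨hua, hub⟩ := hua' hu
  -- the difference of the two braid words is a transvection
  have hdiff : ∀ c : F, c ≠ 0 → InL C u 0 (m c ^ 2 / c + c * n c⁻¹ ^ 2) := by
    intro c hc
    obtain ⟨x, hxL, hxx⟩ := hm c
    obtain ⟨y, hyL, hyy⟩ := hn c⁻¹
    refine ⟨(y * x * y)⁻¹ * (x * y * x), mul_mem (inv_mem (mul_mem (mul_mem hyL hxL) hyL))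
      (mul_mem (mul_mem hxL hyL) hxL), fun z => ?_⟩
    show (y * x * y).symm (x (y (x z))) = _
    have hfix : (y * x * y) u = u := by
      show y (x (y u)) = u
      simp [hxx, hyy, sief, C.alt, hua, hub]
    have key : x (y (x z)) = y (x (y z)) + ((m c ^ 2 / c + c * n c⁻¹ ^ 2) * C.B z u) • u := by
      simp only [hxx, hyy, sief, map_add, map_smul, LinearMap.add_apply, LinearMap.smul_apply, smul_eq_mul,
        C.alt, hua, hub, hu.1, hu.2, P.ab, pair_ba P]
      match_scalars <;> field_simp <;> ring_nf <;> simp [two0, three1, four0]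
    rw [key, show y (x (y z)) = (y * x * y) z from rfl, map_add, map_smul, LinearEquiv.symm_apply_apply,
      (LinearEquiv.symm_apply_eq _).2 hfix.symm]
    simp [sief]
  by_cases he : ∃ c : F, c ≠ 0 ∧ m c ^ 2 / c + c * n c⁻¹ ^ 2 ≠ 0
  · obtain ⟨c, hc, he⟩ := he
    refine ⟨(m c ^ 2 / c + c * n c⁻¹ ^ 2)⁻¹, inv_ne_zero he, fun t => ?_⟩
    rw [inv_mul_eq_div]
    exact tv_line P hZ hu hu0 he (hdiff c hc) t
  push Not at he
  have hmn : ∀ c : F, c ≠ 0 → m c = c * n c⁻¹ := fun c hc => by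
    refine CharTwo.sq_injective ?_
    show m c ^ 2 = (c * n c⁻¹) ^ 2
    have h := CharTwo.add_eq_zero.1 (he c hc)
    rw [div_eq_iff hc] at h
    rw [h]; ring
  have hmu : ∀ (c : F) (μ : F), InL C a (μ • u) c → μ = m c := by
    intro c μ h
    have h1 := inL_sum (perp_smul P hu μ) (perp_smul P hu (m c)) h (hm c)
    simp only [map_smul, LinearMap.smul_apply, C.alt, smul_zero, add_zero, ← add_smul,
      CharTwo.add_self_eq_zero] at h1
    by_contra hne
    have hs : μ + m c ≠ 0 := fun e => hne (CharTwo.add_eq_zero.1 e)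
    have h2 := zero_line P hZ (perp_smul P hu _) h1 (μ + m c)⁻¹
    rw [smul_smul, inv_mul_cancel₀ hs, one_smul] at h2
    exact hc₀ (uniq P hZ hu.1 hx₀ h2)
  have hnu : ∀ (c : F) (μ : F), InL C b (μ • u) c → μ = n c := by
    intro c μ h
    have h1 := inL_sum (perp_smul Ps hu' μ) (perp_smul Ps hu' (n c)) h (hn c)
    simp only [map_smul, LinearMap.smul_apply, C.alt, smul_zero, add_zero, ← add_smul,
      CharTwo.add_self_eq_zero] at h1
    by_contra hne
    have hs : μ + n c ≠ 0 := fun e => hne (CharTwo.add_eq_zero.1 e)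
    have h2 := zero_line Ps hZ (perp_smul Ps hu' _) h1 (μ + n c)⁻¹
    rw [smul_smul, inv_mul_cancel₀ hs, one_smul] at h2
    exact hd₀ (uniq Ps hZ hu.2 hy₀ h2)
  have hm0 : m 0 = 0 := (hmu 0 0 (by rw [zero_smul]; exact inL_one a)).symm
  have hmadd : ∀ c c' : F, m (c + c') = m c + m c' := fun c c' => (hmu _ _ (by
    have h1 := inL_sum (perp_smul P hu (m c)) (perp_smul P hu (m c')) (hm c) (hm c')
    simpa only [map_smul, LinearMap.smul_apply, C.alt, smul_zero, add_zero, ← add_smul] using h1)).symm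
  have hnadd : ∀ c c' : F, n (c + c') = n c + n c' := fun c c' => (hnu _ _ (by
    have h1 := inL_sum (perp_smul Ps hu' (n c)) (perp_smul Ps hu' (n c')) (hn c) (hn c')
    simpa only [map_smul, LinearMap.smul_apply, C.alt, smul_zero, add_zero, ← add_smul] using h1)).symm
  have hsq : ∀ c : F, m (c ^ 2) = c * m 1 := by
    intro c
    by_cases hc : c = 0
    · simp [hc, hm0]
    by_cases hc1 : c + 1 = 0
    · rw [CharTwo.add_eq_zero.1 hc1]; simp
    have hcc : c * (c + 1) ≠ 0 := mul_ne_zero hc hc1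
    have h1 := hnadd c⁻¹ (c + 1)⁻¹
    rw [show c⁻¹ + (c + 1)⁻¹ = (c * (c + 1))⁻¹ by
      field_simp; linear_combination c * two0 (F := F)] at h1
    have e1 := hmn c hc
    have e2 := hmn _ hc1
    have e3 := hmn _ hcc
    rw [hmadd c 1] at e2
    rw [show c * (c + 1) = c ^ 2 + c by ring, hmadd (c ^ 2) c] at e3
    rw [show c * (c + 1) = c ^ 2 + c by ring] at h1
    linear_combination e3 + (c ^ 2 + c) * h1 - (c + 1) * e1 - c * e2 + (c * m c) * two0 (F := F)
  have hm1 : m 1 ≠ 0 := fun h => by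
    have hx := hm 1
    rw [h, zero_smul] at hx
    exact one_ne_zero (uniq P hZ (map_zero _) hx (inL_one a))
  refine ⟨((m 1)⁻¹) ^ 2, pow_ne_zero _ (inv_ne_zero hm1), fun t => ⟨?_, ?_⟩⟩
  · have h1 := hm ((t / m 1) ^ 2)
    rw [hsq, div_mul_cancel₀ _ hm1] at h1
    rwa [← mul_pow, inv_mul_eq_div]
  · by_cases ht : t = 0
    · rw [ht, zero_smul, zero_pow two_ne_zero, mul_zero]; exact inL_one b
    have h1 := hn ((t / m 1) ^ 2)
    have e : n ((t / m 1) ^ 2) = t := by
      have e1 := hmn ((m 1 / t) ^ 2) (pow_ne_zero _ (div_ne_zero hm1 ht))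
      rw [hsq, ← inv_pow, inv_div] at e1
      field_simp at e1 ⊢
      linear_combination -e1
    rw [e] at h1
    rwa [← mul_pow, inv_mul_eq_div]

/-- A unit line transports the parameters to the other vector and makes them quadratic. -/
theorem unit_transport {u : V} (hu : UnitLine C a b u) {t : F} (ht : t ≠ 0) {v : V} (hv : Perp C a b v)
    {c : F} (h : InL C a v c) : InL C b (t • v) (t ^ 2 * c) := by
  obtain ⟨huP, hul⟩ := hu
  obtain ⟨l, hl⟩ := sq_exists t⁻¹
  have hl0 : l ≠ 0 := fun e => by rw [e, zero_pow two_ne_zero, eq_comm, inv_eq_zero] at hl; exact ht hl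
  obtain ⟨x, hxL, hxx⟩ := (hul l).1
  obtain ⟨y, hyL, hyy⟩ := (hul l⁻¹).2
  obtain ⟨hua, hub⟩ := hua' huP
  obtain ⟨hva, hvb⟩ := hua' hv
  have ga : (x * y * x) a = t • b := by
    show x (y (x a)) = _
    simp only [hxx, hyy, sief, map_add, map_smul, LinearMap.add_apply, LinearMap.smul_apply, smul_eq_mul,
      C.alt, hua, hub, huP.1, huP.2, P.ab, pair_ba P]
    rw [show t = (l ^ 2)⁻¹ by rw [hl, inv_inv]]
    match_scalars <;> field_simp <;> ring_nf <;> simp [two0, three1, four0]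
  have gv : (x * y * x) v = v + C.B v u • u := by
    show x (y (x v)) = _
    simp only [hxx, hyy, sief, map_add, map_smul, LinearMap.add_apply, LinearMap.smul_apply, smul_eq_mul,
      C.alt, hua, hub, hva, hvb, huP.1, huP.2, P.ab, pair_ba P]
    match_scalars <;> field_simp <;> ring_nf <;> simp [two0, three1, four0]
  have h1 := inL_conj h (mul_mem (mul_mem hxL hyL) hxL)
  rw [ga, gv, inL_scale_iff ht, smul_add, smul_smul] at h1
  have hp1 : Perp C b a (t • v + (t * C.B v u) • u) :=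
    perp_add (pair_symm P) ⟨by simp [hv.2], by simp [hv.1]⟩ ⟨by simp [huP.2], by simp [huP.1]⟩
  have h2 := inL_sum hp1 ⟨by simp [huP.2], by simp [huP.1]⟩ h1 (hul (t * C.B v u)).2
  rw [add_assoc, ← two_smul F ((t * C.B v u) • u), two0, zero_smul, add_zero] at h2
  rwa [show t ^ 2 * c + (t * C.B v u) ^ 2 +
      C.B ((t * C.B v u) • u) (t • v + (t * C.B v u) • u) = t ^ 2 * c by
    simp only [map_add, map_smul, LinearMap.smul_apply, smul_eq_mul, C.alt, symm (C := C) u v]
    linear_combination (t * C.B v u) ^ 2 * two0 (F := F)] at h2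

/-- With a unit line the parameters are quadratic. -/
theorem unit_quad {u : V} (hu : UnitLine C a b u) (t : F) {v : V} (hv : Perp C a b v) {c : F}
    (h : InL C a v c) : InL C a (t • v) (t ^ 2 * c) := by
  by_cases ht : t = 0
  · rw [ht, zero_smul, zero_pow two_ne_zero, zero_mul]; exact inL_one a
  have h1 := unit_transport P hZ hu ht hv h
  have hu' : UnitLine C b a u := ⟨⟨hu.1.2, hu.1.1⟩, fun s => (hu.2 s).symm⟩
  have h2 := unit_transport (pair_symm P) hZ hu' one_ne_zero (v := t • v)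
    ⟨by simp [hv.2], by simp [hv.1]⟩ h1
  simpa using h2

/-- Three lines in a plane cannot all have zero parameter. -/
theorem three_lines {x y z : V} (hx : Perp C a b x) (hy : Perp C a b y) {p r : F} (hz : z = p • x + r • y)
    (hp : p ≠ 0) (hr : r ≠ 0) (hxy : C.B y x ≠ 0) (h1 : InL C a x 0) (h2 : InL C a y 0)
    (h3 : InL C a z 0) : False := by
  have h4 := inL_sum (perp_smul P hx p) (perp_smul P hy r) (zero_line P hZ hx h1 p) (zero_line P hZ hy h2 r)
  rw [← hz] at h4
  have h5 := uniq P hZ (by rw [hz]; simp [hx.1, hy.1]) h4 h3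
  simp [hp, hr, hxy] at h5

/-- Over a field with more than two elements a unit line exists. -/
theorem exists_unit_line (hq : 4 ≤ Fintype.card F) {v : V} (hv : Perp C a b v) (hv0 : v ≠ 0) :
    ∃ u, UnitLine C a b u := by
  classical
  obtain ⟨w, hw, hvw⟩ := perp_partner P hv hv0
  have hwv : C.B w v = 1 := by rw [symm, hvw]
  -- the lines of the plane
  let U : Option F → V := fun o => o.elim w fun t => v + t • w
  have hU : ∀ o, Perp C a b (U o) := fun o => by
    rcases o with _ | t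
    · exact hw
    · exact perp_add P hv (perp_smul P hw t)
  have hUB : ∀ o o', o ≠ o' → C.B (U o) (U o') ≠ 0 := by
    rintro (_ | t) (_ | s) hne
    · exact absurd rfl hne
    · simp [U, hwv, C.alt]
    · simp [U, hvw, C.alt]
    · simp only [U, Option.elim, map_add, map_smul, LinearMap.add_apply, LinearMap.smul_apply, smul_eq_mul,
        C.alt, hvw, hwv, mul_zero, mul_one, zero_add, add_zero]
      exact fun e => hne (congrArg some (CharTwo.add_eq_zero.1 (by linear_combination e)))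
  have hbound : ∀ (a' b' : V), Pair C a' b' → (∀ o, Perp C a' b' (U o)) →
      (Finset.univ.filter fun o : Option F => InL C a' (U o) 0).card ≤ 2 := by
    intro a' b' P' hU'
    by_contra hcon
    obtain ⟨o₁, o₂, o₃, m1, m2, m3, h12, h13, h23⟩ := Finset.two_lt_card_iff.1 (Nat.lt_of_not_le hcon)
    simp only [Finset.mem_filter, Finset.mem_univ, true_and] at m1 m2 m3
    have hD := hUB o₁ o₂ h12
    refine three_lines P' hZ (hU' o₁) (hU' o₂) (z := U o₃)
      (p := C.B (U o₂) (U o₃) / C.B (U o₁) (U o₂)) (r := C.B (U o₁) (U o₃) / C.B (U o₁) (U o₂)) ?_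
      (div_ne_zero (hUB _ _ h23) hD) (div_ne_zero (hUB _ _ h13) hD) (by rwa [symm]) m1 m2 m3
    have key : C.B (U o₁) (U o₂) • U o₃ =
        C.B (U o₂) (U o₃) • U o₁ + C.B (U o₁) (U o₃) • U o₂ := by
      rcases o₁ with _ | t₁ <;> rcases o₂ with _ | t₂ <;> rcases o₃ with _ | t₃ <;>
        simp only [U, Option.elim, map_add, map_smul, LinearMap.add_apply, LinearMap.smul_apply, smul_eq_mul,
          C.alt, hvw, hwv] <;>
        match_scalars <;> ring_nf <;> simp [two0]
    rw [div_eq_inv_mul, div_eq_inv_mul, mul_smul, mul_smul, ← smul_add, ← key, inv_smul_smul₀ hD]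
  have hU' : ∀ o, Perp C b a (U o) := fun o => ⟨(hU o).2, (hU o).1⟩
  obtain ⟨o, ho⟩ : ∃ o : Option F, ¬ InL C a (U o) 0 ∧ ¬ InL C b (U o) 0 := by
    by_contra hcon
    push Not at hcon
    have hle : (Finset.univ : Finset (Option F)) ⊆ (Finset.univ.filter fun o => InL C a (U o) 0) ∪
        Finset.univ.filter fun o => InL C b (U o) 0 := fun o _ => by
      by_cases h : InL C a (U o) 0
      · simp [h]
      · simp [hcon o h]
    have h0 := (Finset.card_le_card hle).trans (Finset.card_union_le _ _)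
    rw [Finset.card_univ, Fintype.card_option] at h0
    have h1 := hbound a b P hU
    have h2 := hbound b a (pair_symm P) hU'
    omega
  obtain ⟨c, hc⟩ := P.fa (U o) (hU o).1
  obtain ⟨d, hd⟩ := P.fb (U o) (hU o).2
  obtain ⟨s, -, hs⟩ := unit_line P hZ (hU o) (fun e => ho.1 (e ▸ hc)) (fun e => ho.2 (e ▸ hd)) hc hd
  exact ⟨_, hs⟩

/-- Over a field with more than two elements a full vector has one partner on each line through it. -/
theorem pair_unique (hq : 4 ≤ Fintype.card F) {v : V} (hv : Perp C a b v) (hv0 : v ≠ 0) {δ : F}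
    (hb' : Full C (b + δ • a)) : δ = 0 := by
  classical
  by_contra hδ
  have P' : Pair C a (b + δ • a) := ⟨P.fa, hb', by simp [P.ab, C.alt]⟩
  obtain ⟨u, hu, hul⟩ := exists_unit_line P hZ hq hv hv0
  have hperp' : ∀ x, Perp C a b x → Perp C a (b + δ • a) x := fun x hx => ⟨hx.1, by simp [hx.1, hx.2]⟩
  obtain ⟨u', hu'⟩ := exists_unit_line P' hZ hq (hperp' v hv) hv0
  obtain ⟨ε, hε⟩ := sq_exists δ
  have hε0 : ε ≠ 0 := fun e => hδ (by rw [← hε, e, zero_pow two_ne_zero])
  obtain ⟨hua, hub⟩ := hua' hu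
  obtain ⟨x, hxL, hxx⟩ := (hul ε).1
  obtain ⟨l, hl0, hl1⟩ : ∃ l : F, l ≠ 0 ∧ l ≠ 1 := by
    obtain ⟨l, hl⟩ := Finset.exists_mem_notMem_of_card_lt_card (s := ({0, 1} : Finset F))
      (t := Finset.univ) (by
        have := Finset.card_le_two (a := (0 : F)) (b := 1)
        rw [Finset.card_univ]; omega)
    simp only [Finset.mem_insert, Finset.mem_singleton, not_or] at hl
    exact ⟨l, hl.2⟩
  have key : ∀ l : F, l ≠ 0 → InL C u a ((l ^ 2)⁻¹) := by
    intro l hl
    obtain ⟨ν, hν⟩ := sq_exists (l ^ 2 * ε)⁻¹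
    have h1 := unit_transport P' hZ hu' one_ne_zero (hperp' _ (perp_smul P hu ν)) (hul ν).1
    rw [one_smul, one_pow, one_mul] at h1
    have h2 := inL_conj h1 hxL
    rw [hxx, map_smul, hxx,
      show sief C.B a (ε • u) (ε ^ 2) u = u by simp [sief, C.alt, hua],
      show sief C.B a (ε • u) (ε ^ 2) (b + δ • a) = b + ε • u by
        simp [sief, hu.1, hu.2, pair_ba P, C.alt, hε]
        rw [add_comm (b + δ • a) (ε • u), add_assoc, add_assoc, ← two_smul F (δ • a), two0, zero_smul,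
          add_zero, add_comm]] at h2
    obtain ⟨y', hy'L, hy'⟩ := h2
    obtain ⟨y, hyL, hyy⟩ := (hul ν).2
    have h3 : InL C u ((ε * ν ^ 2) • b) (δ * ν ^ 2) := ⟨y * y', mul_mem hyL hy'L, fun z => by
      show y (y' z) = _
      simp only [hy', hyy, sief, map_add, map_smul, LinearMap.add_apply, LinearMap.smul_apply, smul_eq_mul,
        C.alt, hub, hu.2, ← hε]
      match_scalars <;> ring_nf <;> simp [two0, three1, four0]⟩
    obtain ⟨k, hkL, hkx⟩ := (hul l).1
    have h4 := inL_conj h3 hkL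
    rw [hkx, map_smul, hkx,
      show sief C.B a (l • u) (l ^ 2) u = u by simp [sief, C.alt, hua],
      show sief C.B a (l • u) (l ^ 2) b = b + l • u + l ^ 2 • a by simp [sief, hu.2, pair_ba P],
      show (ε * ν ^ 2) • (b + l • u + l ^ 2 • a) =
        ((ε * ν ^ 2) • b + (ε * ν ^ 2 * l ^ 2) • a) + (ε * ν ^ 2 * l) • u by module, inL_shift_iff] at h4
    have h5 := inL_mul (by simp [hua, hub]) (by simp [hub]) h4 h3
    have hb1 : ε * ν ^ 2 = (l ^ 2)⁻¹ := by rw [hν]; field_simp
    rw [hb1, inv_mul_cancel₀ (pow_ne_zero _ hl), one_smul,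
      show (l ^ 2)⁻¹ • b + a + (l ^ 2)⁻¹ • b = a by
        rw [add_comm ((l ^ 2)⁻¹ • b) a, add_assoc, ← two_smul F ((l ^ 2)⁻¹ • b), two0, zero_smul, add_zero],
      show δ * ν ^ 2 + δ * ν ^ 2 + C.B ((l ^ 2)⁻¹ • b) ((l ^ 2)⁻¹ • b + a) = (l ^ 2)⁻¹ by
        simp [C.alt, pair_ba P, CharTwo.add_self_eq_zero]] at h5
    exact h5
  have h6 := inL_mul (by simp [hua]) (by simp [hua]) (key 1 one_ne_zero) (key l hl0)
  simp only [C.alt, add_zero, ← two_smul F a, two0, zero_smul, one_pow, inv_one] at h6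
  have hne : 1 + (l ^ 2)⁻¹ ≠ 0 := fun e => by
    have e1 := CharTwo.add_eq_zero.1 e
    exact hl1 (CharTwo.sq_injective (show l ^ 2 = (1 : F) ^ 2 by rw [one_pow, ← inv_inv (l ^ 2), ← e1, inv_one]))
  have hu0 : u ≠ 0 := by
    rintro rfl
    have := uniq P hZ (map_zero (C.B a)) (by simpa using (hul 1).1) (inL_one a)
    exact one_ne_zero this
  have h7 := (tv_line P hZ hu hu0 hne h6 1).1
  have h8 := uniq P hZ (by simp [hu.1]) h7 (hul 1).1
  rw [one_pow, one_div, inv_eq_one, add_eq_left, inv_eq_zero] at h8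
  exact pow_ne_zero _ hl0 h8

end CfsgLib.SpIrred
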