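import Cfsg.Agent.Lib.SpIrred.Form
import Cfsg.Agent.Lib.SpIrred.Gen
import Cfsg.Agent.Lib.SpIrred.Exception

/-!
Subgroups of symplectic groups in characteristic two, part 9: irreducible groups with a full vector.
-/

set_option autoImplicit false
set_option linter.unusedSectionVars false

namespace CfsgLib.SpIrred

open QuadraticMap CfsgLib.WittExtension CfsgLib.SpinorNorm Module

variable {F V : Type*} [Field F] [CharP F 2] [Fintype F] [AddCommGroup V] [Module F V] [FiniteDimensional F V]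
  {C : Ctx F V}

theorem card_cases : Fintype.card F = 2 ∨ 4 ≤ Fintype.card F := by
  obtain ⟨n, -, hn⟩ := FiniteField.card F 2
  rcases Nat.lt_or_ge (n : ℕ) 2 with h | h
  · left
    rw [hn, show (n : ℕ) = 1 by have := n.pos; omega]; rfl
  · right
    rw [hn]
    calc 4 = 2 ^ 2 := rfl
      _ ≤ _ := Nat.pow_le_pow_right (by norm_num) h

/-- Small subspaces have nonzero orthogonal vectors. -/
theorem exists_big (hd : 3 ≤ finrank F V) (a b : V) : ∃ w : V, w ≠ 0 ∧ C.B a w = 0 ∧ C.B b w = 0 := by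
  have hk : (⊥ : Submodule F V) < LinearMap.ker ((C.B a).prod (C.B b)) := by
    rw [bot_lt_iff_ne_bot]
    intro h
    have h1 := LinearMap.finrank_range_add_finrank_ker ((C.B a).prod (C.B b))
    rw [h, finrank_bot, add_zero] at h1
    have h2 := Submodule.finrank_le (LinearMap.range ((C.B a).prod (C.B b)))
    rw [h1, finrank_prod, Module.finrank_self] at h2
    omega
  obtain ⟨w, hw, hw0⟩ := SetLike.exists_of_lt hk
  rw [LinearMap.mem_ker, LinearMap.prod_apply] at hw
  have hw1 : C.B a w = 0 := congrArg Prod.fst hw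
  have hw2 : C.B b w = 0 := congrArg Prod.snd hw
  exact ⟨w, by simpa using hw0, hw1, hw2⟩

/-- Two orthogonal vectors with a pair orthogonal to both, in dimension at least six. -/
theorem exists_quad (hd : 6 ≤ finrank F V) (a b : V) :
    ∃ v w : V, C.B a v = 0 ∧ C.B b v = 0 ∧ C.B a w = 0 ∧ C.B b w = 0 ∧ C.B v w ≠ 0 := by
  by_contra hcon
  push Not at hcon
  set U := LinearMap.ker ((C.B a).prod (C.B b)) with hU
  have hmem : ∀ v, v ∈ U ↔ C.B a v = 0 ∧ C.B b v = 0 := fun v => by
    rw [hU, LinearMap.mem_ker, LinearMap.prod_apply]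
    simp
  have hB : C.B.Nondegenerate :=
    ⟨fun x hx => C.nd x hx, fun y hy => C.nd y fun x => by rw [symm]; exact hy x⟩
  have hle : U ≤ LinearMap.BilinForm.orthogonal C.B U := fun v hv w hw =>
    hcon w v ((hmem w).1 hw).1 ((hmem w).1 hw).2 ((hmem v).1 hv).1 ((hmem v).1 hv).2
  have h1 := Submodule.finrank_mono hle
  rw [LinearMap.BilinForm.finrank_orthogonal hB] at h1
  have h2 := LinearMap.finrank_range_add_finrank_ker ((C.B a).prod (C.B b))
  have h3 := Submodule.finrank_le (LinearMap.range ((C.B a).prod (C.B b)))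
  rw [finrank_prod, Module.finrank_self] at h3
  rw [← hU] at h2
  omega

/-- The three possibilities. -/
theorem classify [Finite V] (hdim : 4 ≤ finrank F V) (heven : Even (finrank F V))
    (hirr : ∀ W : Submodule F V, (∀ g ∈ C.L, ∀ w ∈ W, g w ∈ W) → W = ⊥ ∨ W = ⊤)
    {a : V} (ha0 : a ≠ 0) (ha : Full C a) :
    (∀ (e : V) (c : F), InL C e 0 c) ∨
    (∃ Q : QuadraticForm F V, (∀ x y, polar (⇑Q) x y = C.B x y) ∧
      ((∀ g, g ∈ C.L ↔ g ∈ quadIso Q) ∨
        ∀ g, g ∈ C.L ↔ ∃ h : g ∈ quadIso Q, dickson Q ⟨g, h⟩ = 1)) ∨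
    (Fintype.card F = 2 ∧ finrank F V = 4 ∧ NoTv C ∧ ∀ p : V, p ≠ 0 → Full C p) := by
  classical
  have hbig : ∀ a b : V, ∃ w : V, w ≠ 0 ∧ C.B a w = 0 ∧ C.B b w = 0 := exists_big (by omega)
  by_cases hT : ∃ p : V, p ≠ 0 ∧ Full C p ∧ ∃ c : F, c ≠ 0 ∧ InL C p 0 c
  · obtain ⟨p, hp0, hp, c, hc, hpc⟩ := hT
    exact Or.inl (all_tv hbig hirr hp0 hp hc hpc)
  have hZ : NoTv C := fun p hp0 hp c hc => by
    by_contra h
    exact hT ⟨p, hp0, hp, c, h, hc⟩
  obtain ⟨g, hg, hag⟩ := exists_move hirr ha0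
  set b := (C.B a (g a))⁻¹ • g a with hb
  have P : Pair C a b := ⟨ha, full_smul (full_conj ha hg) (inv_ne_zero hag), by
    rw [hb, map_smul, smul_eq_mul, inv_mul_cancel₀ hag]⟩
  obtain ⟨w, hw0, hwa, hwb⟩ := hbig a b
  by_cases hex : Fintype.card F = 2 ∧ Full C (b + a)
  · obtain ⟨hq, hk⟩ := hex
    have hall := full_all hq P hk
    by_cases h4 : finrank F V = 4
    · exact Or.inr (Or.inr ⟨hq, h4, hZ, hall⟩)
    exfalso
    obtain ⟨v, v', h1, h2, h3, h5, h6⟩ := exists_quad (C := C) (by obtain ⟨k, hk⟩ := heven; omega) a w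
    refine two_absurd hq hZ hall ha0 hw0 (fun e => ?_) hwa h1 h2 h3 h5 h6
    have h7 := congrArg (C.B b) e
    rw [map_add, pair_ba P, hwb, add_zero, map_zero] at h7
    exact one_ne_zero h7
  have hR : Regular C a b := by
    rcases card_cases (F := F) with hq | hq
    · exact regular_of_two P hZ hq fun hk => hex ⟨hq, hk⟩
    · exact regular_of_four P hZ hq ⟨hwa, hwb⟩ hw0
  obtain ⟨Q, hpol, hinv, hQa, hQb, hsieg⟩ := exists_form P hZ hR
  refine Or.inr (Or.inl ⟨Q, hpol, ?_⟩)
  have hQn : (polarBilin Q).Nondegenerate :=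
    ⟨fun x hx => C.nd x fun y => (hpol x y).symm.trans (hx y),
      fun y hy => C.nd y fun x => by rw [symm, ← hpol]; exact hy x⟩
  have hab : polar (⇑Q) a b = 1 := by rw [hpol]; exact P.ab
  have hbig' : ∀ x y : V, ∃ w : V, w ≠ 0 ∧ polar (⇑Q) x w = 0 ∧ polar (⇑Q) y w = 0 := by
    simpa only [hpol] using hbig
  have hB : C.B.Nondegenerate :=
    ⟨fun x hx => C.nd x hx, fun y hy => C.nd y fun x => by rw [symm]; exact hy x⟩
  have hgen := closure_sieg_refl Q hQn hQa hQb hab hbig' (by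
    by_cases h4 : finrank F V = 4
    · refine Or.inr (Or.inr fun z hz1 hz2 hz0 y hy1 hy2 hzy x hx1 hx2 => ?_)
      simp only [hpol] at hz1 hz2 hy1 hy2 hzy hx1 hx2
      have hli : LinearIndependent F ![a, b] := (LinearIndependent.pair_iff' ha0).2 fun t ht => by
        have h1 := congrArg (C.B a) ht
        rw [map_smul, C.alt, smul_zero, P.ab] at h1
        exact zero_ne_one h1
      set W := LinearMap.BilinForm.orthogonal C.B (Submodule.span F (Set.range ![a, b])) with hW
      have hWm : ∀ v, C.B a v = 0 → C.B b v = 0 → v ∈ W := by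
        intro v h1 h2 u hu
        induction hu using Submodule.span_induction with
        | mem y hy => obtain ⟨i, rfl⟩ := hy; fin_cases i <;> simp [h1, h2]
        | zero => simp
        | add y z _ _ h h' => simp_all
        | smul t y _ h => simp_all
      have hWd : finrank F W = 2 := by
        rw [hW, LinearMap.BilinForm.finrank_orthogonal hB, h4, finrank_span_eq_card hli, Fintype.card_fin]
      have hli2 : LinearIndependent F ![z, y] := (LinearIndependent.pair_iff' hz0).2 fun t ht => by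
        rw [← ht, map_smul, C.alt, smul_zero] at hzy
        exact hzy rfl
      have hle : Submodule.span F {z, y} ≤ W := Submodule.span_le.2 fun u hu => by
        rcases hu with rfl | rfl
        · exact hWm _ hz1 hz2
        · exact hWm _ hy1 hy2
      have heq : Submodule.span F {z, y} = W := by
        refine Submodule.eq_of_le_of_finrank_eq hle ?_
        rw [hWd, show ({z, y} : Set V) = Set.range ![z, y] by simp [Matrix.range_cons, Matrix.range_empty, Set.pair_comm],
          finrank_span_eq_card hli2, Fintype.card_fin]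
      rw [heq]
      exact hWm x hx1 hx2
    · exact Or.inl h4)
  have hx : Q (a + b) ≠ 0 := by
    rw [QuadraticMap.map_add Q, hQa, hQb, hab]; simp
  have hBeq : polarBilin Q = C.B := LinearMap.ext₂ fun x y => hpol x y
  have hM : Subgroup.closure (Sieg Q) ≤ C.L.comap (quadIso Q).subtype := by
    rw [Subgroup.closure_le]
    rintro s ⟨p, v, hp, hQp, hpv, hs⟩
    obtain ⟨k, hk, hkx⟩ := hsieg p v hp hQp (by rw [← hpol]; exact hpv)
    have e : s.1 = k := LinearEquiv.ext fun z => by rw [hs, hBeq, hkx]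
    show s.1 ∈ C.L
    rwa [e]
  have hL : ∀ g ∈ C.L, g ∈ quadIso Q := fun g hg => hinv g hg
  by_cases hodd : ∃ (g : V ≃ₗ[F] V) (hg : g ∈ C.L), dickson Q ⟨g, hL g hg⟩ ≠ 1
  · left
    obtain ⟨k, hk, hkd⟩ := hodd
    have hr : (refl Q hx).1 ∈ C.L := by
      have h1 : ((refl Q hx) * ⟨k, hL k hk⟩ : quadIso Q).1 ∈ C.L :=
        hM ((mem_sieg_iff Q hQn hbig' hdim hgen hx ⟨k, hL k hk⟩).2 hkd)
      have h2 := mul_mem h1 (inv_mem hk)
      rwa [show ((refl Q hx) * ⟨k, hL k hk⟩ : quadIso Q).1 = (refl Q hx).1 * k from rfl,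
        mul_inv_cancel_right] at h2
    refine fun g => ⟨hL g, fun hg => ?_⟩
    obtain ⟨h1, h2⟩ := mem_sieg_iff Q hQn hbig' hdim hgen hx ⟨g, hg⟩
    by_cases hd : dickson Q ⟨g, hg⟩ = 1
    · exact hM (h1 hd)
    · have h3 : ((refl Q hx) * ⟨g, hg⟩ : quadIso Q).1 ∈ C.L := hM (h2 hd)
      have h4 := mul_mem (inv_mem hr) h3
      rwa [show ((refl Q hx) * ⟨g, hg⟩ : quadIso Q).1 = (refl Q hx).1 * g from rfl,
        inv_mul_cancel_left] at h4
  · right
    push Not at hodd
    refine fun g => ⟨fun hg => ⟨hL g hg, hodd g hg⟩, fun ⟨hg, hd⟩ => ?_⟩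
    exact hM ((mem_sieg_iff Q hQn hbig' hdim hgen hx ⟨g, hg⟩).1 hd)

end CfsgLib.SpIrred
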