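import Cfsg.Agent.Lib.SpIrred.Basic

/-!
Subgroups of symplectic groups in characteristic two, part 10: the largest normal 2-subgroup of a point
stabiliser consists of root elements.
-/

set_option autoImplicit false
set_option linter.unusedSectionVars false

namespace CfsgLib.SpIrred

variable {F V : Type*} [Field F] [CharP F 2] [AddCommGroup V] [Module F V] {C : Ctx F V}

/-- Two transvections with non-orthogonal centres do not generate a unipotent product. -/
theorem tv_prod_not_two {u x : V} (hux : C.B u x ≠ 0) (h : V ≃ₗ[F] V)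
    (hh : ∀ z, h z = (z + C.B z u • u) + C.B (z + C.B z u • u) x • x) (k : ℕ) : h ^ 2 ^ k ≠ 1 := by
  intro hk
  let f : Module.End F V := h.toLinearMap
  have hfk : ∀ m : ℕ, f ^ m = (h ^ m).toLinearMap := fun m => by
    induction m with
    | zero => rfl
    | succ m ih => rw [pow_succ, ih, pow_succ h m]; rfl
  have hN : (f + 1) ^ 2 ^ k = 0 := by
    have hadd : ∀ g : Module.End F V, g + g = 0 := fun g => LinearMap.ext fun z => by
      show g z + g z = 0
      rw [← two_smul F, two0, zero_smul]
    have hrec : ∀ j : ℕ, (f + 1) ^ 2 ^ j = f ^ 2 ^ j + 1 := by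
      intro j
      induction j with
      | zero => simp
      | succ j ih =>
        rw [pow_succ 2 j, pow_mul, pow_mul, ih, pow_two, pow_two, add_mul, mul_add, mul_add, mul_one, one_mul,
          one_mul, show f ^ 2 ^ j * f ^ 2 ^ j + f ^ 2 ^ j + (f ^ 2 ^ j + 1) =
            f ^ 2 ^ j * f ^ 2 ^ j + 1 + (f ^ 2 ^ j + f ^ 2 ^ j) by abel, hadd, add_zero]
    rw [hrec, hfk, hk]
    exact hadd 1
  have hu0 : u ≠ 0 := fun e => hux (by rw [e]; simp)
  have hind : ∀ p r : F, p • u + r • x = 0 → p = 0 ∧ r = 0 := by
    intro p r e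
    have h1 := congrArg (C.B u) e
    rw [map_add, map_smul, map_smul, C.alt, smul_zero, zero_add, map_zero, smul_eq_mul, mul_eq_zero,
      or_iff_left hux] at h1
    rw [h1, zero_smul, add_zero, smul_eq_zero, or_iff_left hu0] at e
    exact ⟨e, h1⟩
  set β := C.B u x with hβ
  have hstep : ∀ p r : F, (f + 1) (p • u + r • x) = (r * β) • u + (p * β + r * β ^ 2) • x := by
    intro p r
    show h (p • u + r • x) + (p • u + r • x) = _
    rw [hh]
    simp only [map_add, map_smul, LinearMap.add_apply, LinearMap.smul_apply, smul_eq_mul, C.alt,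
      symm (C := C) x u, ← hβ]
    match_scalars <;> ring_nf <;> simp [two0]
  have hall : ∀ m : ℕ, ∀ p r : F, (p ≠ 0 ∨ r ≠ 0) → ((f + 1) ^ m) (p • u + r • x) ≠ 0 := by
    intro m
    induction m with
    | zero =>
      intro p r hpr e
      have := hind p r e
      tauto
    | succ m ih =>
      intro p r hpr
      rw [pow_succ, Module.End.mul_apply, hstep]
      refine ih _ _ ?_
      by_cases hr : r = 0
      · right
        rw [hr, zero_mul, add_zero]
        exact mul_ne_zero (hpr.resolve_right (by simpa using hr)) hux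
      · exact Or.inl (mul_ne_zero hr hux)
  exact hall (2 ^ k) 1 0 (Or.inl one_ne_zero) (by rw [hN]; rfl)

/-- An element of a normal 2-subgroup of the stabiliser of a vector is a root element. -/
theorem radical_sief {a b : V} (hab : C.B a b = 1) (N : Subgroup (V ≃ₗ[F] V))
    (hN2 : ∀ g ∈ N, ∃ k, g ^ 2 ^ k = 1) (hNa : ∀ g ∈ N, g a = a)
    (hNB : ∀ g ∈ N, ∀ x y, C.B (g x) (g y) = C.B x y)
    (hNn : ∀ g ∈ N, ∀ u, C.B a u = 0 → ∀ t : V ≃ₗ[F] V, (∀ z, t z = z + C.B z u • u) → t * g * t⁻¹ ∈ N)
    {g : V ≃ₗ[F] V} (hg : g ∈ N) :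
    C.B a (g b + b) = 0 ∧ ∀ z, g z = sief C.B a (g b + b) (C.B b (g b + b)) z := by
  have hba : C.B b a = 1 := by rw [symm, hab]
  have tv : ∀ u : V, ∃ t : V ≃ₗ[F] V, ∀ z, t z = z + C.B z u • u := fun u => by
    let f : V →ₗ[F] V := LinearMap.id + (C.B.flip u).smulRight u
    have hf : ∀ z, f z = z + C.B z u • u := fun z => by simp [f]
    have hff : f ∘ₗ f = LinearMap.id := by
      ext z
      simp only [LinearMap.comp_apply, hf, map_add, map_smul, LinearMap.add_apply, LinearMap.smul_apply,
        smul_eq_mul, C.alt, LinearMap.id_coe, id_eq]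
      match_scalars <;> ring_nf <;> simp [two0]
    exact ⟨LinearEquiv.ofLinearMap f f hff hff, hf⟩
  -- the commutator of an element with a transvection
  have hcomm : ∀ g ∈ N, ∀ u, C.B a u = 0 → ∃ c ∈ N,
      ∀ z, c z = (z + C.B z u • u) + C.B (z + C.B z u • u) (g u) • g u := by
    intro g hg u hu
    obtain ⟨t, ht⟩ := tv u
    refine ⟨g * (t * g⁻¹ * t⁻¹), mul_mem hg (hNn _ (inv_mem hg) u hu t ht), fun z => ?_⟩
    show g (t (g.symm (t.symm z))) = _
    have hts : t.symm z = z + C.B z u • u := by
      rw [LinearEquiv.symm_apply_eq, ht]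
      simp only [map_add, map_smul, LinearMap.add_apply, LinearMap.smul_apply, smul_eq_mul, C.alt]
      match_scalars <;> ring_nf <;> simp [two0]
    have e : C.B (g.symm (z + C.B z u • u)) u = C.B (z + C.B z u • u) (g u) := by
      conv_rhs => rw [← g.apply_symm_apply (z + C.B z u • u), hNB g hg]
    rw [hts, ht, map_add, map_smul, g.apply_symm_apply, e]
  have halt : ∀ g ∈ N, ∀ u, C.B a u = 0 → C.B u (g u) = 0 := by
    intro g hg u hu
    by_contra hne
    obtain ⟨c, hc, hcz⟩ := hcomm g hg u hu
    obtain ⟨k, hk⟩ := hN2 c hc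
    exact tv_prod_not_two hne c hcz k hk
  have htriv : ∀ v, C.B a v = 0 → ∀ u, C.B a u = 0 → C.B v (u + g u) = 0 := by
    intro v hv u hu
    obtain ⟨c, hc, hcz⟩ := hcomm g hg u hu
    have h1 := halt c hc v hv
    rw [hcz] at h1
    simp only [map_add, map_smul, LinearMap.add_apply, LinearMap.smul_apply, smul_eq_mul, C.alt,
      halt g hg u hu, mul_zero, add_zero, zero_add] at h1
    have h2 : C.B v (u + g u) ^ 2 = 0 := by
      rw [map_add]
      linear_combination h1 + C.B v u * C.B v (g u) * two0 (F := F)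
    exact pow_eq_zero_iff two_ne_zero |>.1 h2
  set v := g b + b with hv
  have hav : C.B a v = 0 := by
    have h1 := hNB g hg a b
    rw [hNa g hg, hab] at h1
    rw [hv, map_add, h1, hab, CharTwo.add_self_eq_zero]
  refine ⟨hav, ?_⟩
  have hu' : ∀ u, C.B a u = 0 → g u = u + C.B u v • a := by
    intro u hu
    have e1 : u + g u = C.B b (u + g u) • a := by
      refine sub_eq_zero.1 (C.nd _ fun y => ?_)
      set y' := y + C.B a y • b with hy'
      have hay : C.B a y' = 0 := by
        rw [hy', map_add, map_smul, smul_eq_mul, hab, mul_one, CharTwo.add_self_eq_zero]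
      have h1 := htriv y' hay u hu
      rw [hy', LinearMap.map_add₂, LinearMap.map_smul₂, smul_eq_mul] at h1
      rw [LinearMap.map_sub₂, LinearMap.map_smul₂, smul_eq_mul, symm (C := C) (u + g u) y, CharTwo.sub_eq_add]
      linear_combination h1
    generalize C.B b (u + g u) = t at e1
    have h2 : g u = u + t • a := by
      rw [← e1, ← add_assoc, ← two_smul F u, two0, zero_smul, zero_add]
    have h3 := hNB g hg u b
    have hgb : g b = v + b := by rw [hv, add_assoc, ← two_smul F b, two0, zero_smul, add_zero]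
    rw [h2, hgb] at h3
    simp only [map_add, map_smul, LinearMap.add_apply, LinearMap.smul_apply, smul_eq_mul, hab, hav, mul_zero,
      zero_add, mul_one] at h3
    have h4 : t = C.B u v := by linear_combination h3 - C.B u v * two0 (F := F)
    rw [h2, h4]
  intro z
  set u := z + C.B a z • b with hu
  have hau : C.B a u = 0 := by rw [hu, map_add, map_smul, smul_eq_mul, hab, mul_one, CharTwo.add_self_eq_zero]
  have hz : z = u + C.B a z • b := by rw [hu, add_assoc, ← two_smul F, two0, zero_smul, add_zero]
  have hgb : g b = v + b := by rw [hv, add_assoc, ← two_smul F b, two0, zero_smul, add_zero]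
  conv_lhs => rw [hz]
  rw [map_add, map_smul, hu' u hau, hgb, hu]
  simp only [sief, map_add, map_smul, LinearMap.add_apply, LinearMap.smul_apply, smul_eq_mul, symm (C := C) z a]
  match_scalars <;> ring_nf <;> simp [two0, three1]

end CfsgLib.SpIrred
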