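import Mathlib

/-!
Subgroups of symplectic groups in characteristic two, part 7: large subgroups of the symmetric group of
degree six.
-/

set_option autoImplicit false
set_option linter.unusedSectionVars false

namespace CfsgLib.SpIrred

open Equiv Subgroup

theorem card_perm_six : Nat.card (Perm (Fin 6)) = 720 := by
  rw [Nat.card_eq_fintype_card, Fintype.card_perm, Fintype.card_fin]; rfl

theorem card_alt_six : Nat.card (alternatingGroup (Fin 6)) = 360 := by
  rw [nat_card_alternatingGroup, Nat.card_eq_fintype_card, Fintype.card_fin]; rfl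

theorem central_six {n : Perm (Fin 6)} (h : ∀ g : Perm (Fin 6), g * n = n * g) : n = 1 := by
  refine Equiv.ext fun x => ?_
  rw [Perm.one_apply]
  by_contra hx
  obtain ⟨y, hy1, hy2⟩ : ∃ y, y ≠ x ∧ y ≠ n x := by
    obtain ⟨y, hy⟩ := Finset.exists_mem_notMem_of_card_lt_card (s := ({x, n x} : Finset (Fin 6)))
      (t := Finset.univ) (by
        have := Finset.card_le_two (a := x) (b := n x)
        rw [Finset.card_univ, Fintype.card_fin]; omega)
    simp only [Finset.mem_insert, Finset.mem_singleton, not_or] at hy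
    exact ⟨y, hy.2⟩
  have h1 := congrArg (fun p : Perm (Fin 6) => p x) (h (Equiv.swap (n x) y))
  simp only [Perm.mul_apply, Equiv.swap_apply_left, Equiv.swap_apply_of_ne_of_ne (Ne.symm hx) hy1.symm] at h1
  exact hy2 h1

/-- There is no element of order fifteen. -/
theorem no_fifteen (σ : Perm (Fin 6)) : orderOf σ ≠ 15 := by
  intro h
  have h5 : (5 : ℕ) ∣ orderOf σ := by rw [h]; norm_num
  have h3 : (3 : ℕ) ∣ orderOf σ := by rw [h]; norm_num
  have hs := σ.sum_cycleType_le
  rw [Fintype.card_fin] at hs
  rw [← Perm.lcm_cycleType] at h5 h3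
  have hp : ∀ {p : ℕ}, p.Prime → p ∣ σ.cycleType.lcm → ∃ c ∈ σ.cycleType, p ∣ c := by
    intro p hp hd
    generalize σ.cycleType = s at hd ⊢
    induction s using Multiset.induction_on with
    | empty => exact absurd (Nat.dvd_one.1 (by simpa using hd)) hp.ne_one
    | cons a s ih =>
      rw [Multiset.lcm_cons] at hd
      rcases hp.dvd_mul.1 (hd.trans (Nat.lcm_dvd_mul _ _)) with h1 | h1
      · exact ⟨a, Multiset.mem_cons_self a s, h1⟩
      · obtain ⟨c, hc, hc'⟩ := ih h1
        exact ⟨c, Multiset.mem_cons_of_mem hc, hc'⟩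
  obtain ⟨c, hc, hc5⟩ := hp (by norm_num) h5
  obtain ⟨d, hd, hd3⟩ := hp (by norm_num) h3
  have hc2 := Perm.two_le_of_mem_cycleType hc
  have hd2 := Perm.two_le_of_mem_cycleType hd
  by_cases hcd : c = d
  · subst hcd
    have := Multiset.le_sum_of_mem hc
    obtain ⟨k, rfl⟩ := hc5
    omega
  · have h1 : c + d ≤ σ.cycleType.sum := by
      have hle : ({c, d} : Multiset ℕ) ≤ σ.cycleType := by
        refine (Multiset.le_iff_subset (by simp [hcd])).2 fun x hx => ?_
        simp only [Multiset.insert_eq_cons, Multiset.mem_cons, Multiset.mem_singleton] at hx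
        rcases hx with rfl | rfl
        · exact hc
        · exact hd
      obtain ⟨t, ht⟩ := Multiset.le_iff_exists_add.1 hle
      rw [ht]
      simp
    have h5c := Nat.le_of_dvd (by omega) hc5
    have h3d := Nat.le_of_dvd (by omega) hd3
    omega

/-- A group of order sixty in degree six cannot have a self-normalising abelian Sylow 2-subgroup. -/
theorem no_sixty {H : Subgroup (Perm (Fin 6))} (hH : Nat.card H = 60) (X : Subgroup H) (hX : Nat.card X = 4)
    (hab : ∀ x ∈ X, ∀ y ∈ X, x * y = y * x) (hN : ∀ g : H, (∀ x ∈ X, g * x * g⁻¹ ∈ X) → g ∈ X) : False := by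
  classical
  haveI : Fact (Nat.Prime 2) := ⟨Nat.prime_two⟩
  let P : Sylow 2 H := Sylow.ofCard X (by
    rw [hX, hH, show (60 : ℕ) = 2 ^ 2 * 15 by norm_num, Nat.factorization_mul (by norm_num) (by norm_num),
      Nat.Prime.factorization_pow Nat.prime_two]
    simp [Nat.factorization_eq_zero_of_not_dvd (by norm_num : ¬ 2 ∣ 15)])
  have hP : (P : Subgroup H) = X := rfl
  have hle : Subgroup.normalizer (P : Set H) ≤ Subgroup.centralizer (P : Set H) := by
    intro g hg
    rw [Subgroup.mem_set_normalizer_iff] at hg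
    have hgX : g ∈ X := hN g fun x hx => (hg x).1 hx
    rw [Subgroup.mem_centralizer_iff]
    exact fun x hx => hab x hx g hgX
  set K := (MonoidHom.transferSylow P hle).ker with hK
  have hcomp := MonoidHom.ker_transferSylow_isComplement' P hle
  have hKc : Nat.card K = 15 := by
    have h1 := hcomp.card_mul
    rw [hH, show Nat.card (P : Subgroup H) = 4 from hX] at h1
    have h2 : Nat.card K * 4 = 60 := h1
    omega
  -- a group of order fifteen has an element of that order
  haveI : Fact (Nat.Prime 5) := ⟨by norm_num⟩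
  haveI : Fact (Nat.Prime 3) := ⟨by norm_num⟩
  obtain ⟨x, hx⟩ := exists_prime_orderOf_dvd_card' (G := K) 5 (by rw [hKc]; norm_num)
  obtain ⟨y, hy⟩ := exists_prime_orderOf_dvd_card' (G := K) 3 (by rw [hKc]; norm_num)
  have hcardZ : Nat.card (Subgroup.zpowers x) = 5 := by rw [Nat.card_zpowers, hx]
  have hindex : (Subgroup.zpowers x).index = 3 := by
    have := Subgroup.card_mul_index (Subgroup.zpowers x)
    rw [hcardZ, hKc] at this
    omega
  haveI : (Subgroup.zpowers x).Normal :=
    Subgroup.normal_of_index_eq_minFac_card (by rw [hindex, hKc]; norm_num)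
  obtain ⟨i, hi⟩ : ∃ i : ℕ, x ^ i = y * x * y⁻¹ := by
    have : y * x * y⁻¹ ∈ Subgroup.zpowers x :=
      ‹(Subgroup.zpowers x).Normal›.conj_mem x (Subgroup.mem_zpowers x) y
    rwa [← mem_powers_iff_mem_zpowers, Submonoid.mem_powers_iff] at this
  have hiter : ∀ k : ℕ, y ^ k * x * (y ^ k)⁻¹ = x ^ (i ^ k) := by
    intro k
    induction k with
    | zero => simp
    | succ k ih =>
      rw [pow_succ' y k, pow_succ i k, pow_mul, ← ih, show y * y ^ k * x * (y * y ^ k)⁻¹ =
        y * (y ^ k * x * (y ^ k)⁻¹) * y⁻¹ by group, ih, ← conj_pow, ← hi, ← pow_mul, ← pow_mul, Nat.mul_comm]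
  have hxy : Commute x y := by
    have h3 := hiter 3
    have hy3 : y ^ 3 = 1 := by rw [← hy]; exact pow_orderOf_eq_one y
    rw [hy3] at h3
    simp only [one_mul, inv_one, mul_one] at h3
    have h4 : i ^ 3 ≡ 1 [MOD 5] := by
      have h4' : x ^ (i ^ 3) = x ^ 1 := by rw [pow_one]; exact h3.symm
      rw [← hx]
      exact pow_eq_pow_iff_modEq.1 h4'
    have h5 : i % 5 = 1 := by
      have h6 : (i % 5) ^ 3 % 5 = 1 := by rw [← Nat.pow_mod]; exact h4
      have hlt := Nat.mod_lt i (show 5 > 0 by norm_num)
      generalize i % 5 = r at h6 hlt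
      interval_cases r <;> first | rfl | norm_num at h6
    have h7 : y * x * y⁻¹ = x := by
      have e : x ^ i = x ^ 1 := pow_eq_pow_iff_modEq.2 (by rw [hx, Nat.ModEq]; omega)
      rw [← hi, e, pow_one]
    rw [mul_inv_eq_iff_eq_mul] at h7
    exact h7.symm
  have hord := hxy.orderOf_mul_eq_mul_orderOf_of_coprime (by rw [hx, hy]; norm_num)
  rw [hx, hy] at hord
  apply no_fifteen (((x * y : K) : H) : Perm (Fin 6))
  rw [Subgroup.orderOf_coe, Subgroup.orderOf_coe, hord]

/-- Proper subgroups of order divisible by sixty. -/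
theorem six {H : Subgroup (Perm (Fin 6))} (hne : H ≠ ⊤) (h60 : 60 ∣ Nat.card H)
    (hX : Nat.card H = 60 → ∃ X : Subgroup H, Nat.card X = 4 ∧ (∀ x ∈ X, ∀ y ∈ X, x * y = y * x) ∧
      ∀ g : H, (∀ x ∈ X, g * x * g⁻¹ ∈ X) → g ∈ X) :
    Nonempty (H ≃* alternatingGroup (Fin 6)) ∨ Nonempty (H ≃* Perm (Fin 5)) := by
  classical
  have hmul := Subgroup.card_mul_index H
  rw [card_perm_six] at hmul
  have hidx : H.index ∣ 12 := by
    obtain ⟨k, hk⟩ := h60
    refine ⟨k, ?_⟩
    rw [hk] at hmul
    nlinarith
  have hidx1 : H.index ≠ 1 := fun h => hne (Subgroup.index_eq_one.1 h)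
  have hidx12 : H.index ≠ 12 := fun h => by
    have h60' : Nat.card H = 60 := by rw [h] at hmul; omega
    obtain ⟨X, h1, h2, h3⟩ := hX h60'
    exact no_sixty h60' X h1 h2 h3
  have hidx6 : H.index ≤ 6 := by
    have := Nat.le_of_dvd (by norm_num) hidx
    interval_cases h : H.index <;> first | omega | (exfalso; revert hidx; decide)
  set N := H.normalCore with hN
  haveI : IsSimpleGroup (alternatingGroup (Fin 6)) := alternatingGroup.isSimpleGroup (by simp)
  haveI : (N.subgroupOf (alternatingGroup (Fin 6))).Normal := inferInstance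
  rcases (inferInstance : (N.subgroupOf (alternatingGroup (Fin 6))).Normal).eq_bot_or_eq_top with hb | ht
  · right
    have hd : (N.subgroupOf (alternatingGroup (Fin 6))).index ∣ N.index :=
      Subgroup.relIndex_dvd_index_of_normal N _
    rw [hb, Subgroup.index_bot, card_alt_six] at hd
    set φ := MulAction.toPermHom (Perm (Fin 6)) (Perm (Fin 6) ⧸ H) with hφ
    have hker : N = φ.ker := Subgroup.normalCore_eq_ker H
    have hidx0 : H.index ≠ 0 := fun h => by rw [h] at hidx; simp at hidx
    have hle : N.index ≤ H.index.factorial := by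
      rw [hker, Subgroup.index_ker, Subgroup.index_eq_card H, ← Nat.card_perm]
      exact Nat.card_le_card_of_injective _ φ.range.subtype_injective
    have hge : 360 ≤ N.index := Nat.le_of_dvd (Nat.pos_of_ne_zero Subgroup.index_ne_zero_of_finite) hd
    have hsix : H.index = 6 := by
      by_contra h
      have h5 : H.index.factorial ≤ Nat.factorial 5 := Nat.factorial_le (by omega)
      have : Nat.factorial 5 = 120 := rfl
      omega
    have hN1 : N = ⊥ := by
      have hc := Subgroup.card_mul_index N
      rw [card_perm_six] at hc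
      rw [Subgroup.eq_bot_iff_forall]
      intro n hn
      refine central_six fun g => ?_
      by_contra hne'
      have hconj : g * n * g⁻¹ ∈ N := (inferInstance : N.Normal).conj_mem n hn g
      have h1 : g * n * g⁻¹ ≠ n := fun e => hne' (mul_inv_eq_iff_eq_mul.1 e)
      have hn1 : n ≠ 1 := fun e => h1 (by rw [e]; group)
      have h3 : 3 ≤ Nat.card N := by
        have hs : ({1, n, g * n * g⁻¹} : Finset (Perm (Fin 6))) ⊆ Finset.univ.filter (· ∈ N) := by
          intro z hz
          simp only [Finset.mem_insert, Finset.mem_singleton] at hz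
          rcases hz with rfl | rfl | rfl <;> simp [hn, hconj, one_mem]
        have h4 : ({1, n, g * n * g⁻¹} : Finset (Perm (Fin 6))).card = 3 :=
          Finset.card_eq_three.2 ⟨1, n, g * n * g⁻¹, hn1.symm,
            fun e => hn1 (conj_eq_one_iff.1 e.symm), h1.symm, rfl⟩
        rw [Nat.card_eq_fintype_card, Fintype.card_subtype, ← h4]
        exact Finset.card_le_card hs
      nlinarith
    let x₀ : Perm (Fin 6) ⧸ H := QuotientGroup.mk 1
    have hfix : ∀ h : H, φ (h : Perm (Fin 6)) x₀ = x₀ := fun h => by
      show (h : Perm (Fin 6)) • x₀ = x₀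
      show QuotientGroup.mk ((h : Perm (Fin 6)) * 1) = (QuotientGroup.mk 1 : Perm (Fin 6) ⧸ H)
      rw [mul_one, QuotientGroup.eq, mul_one]
      exact inv_mem h.2
    let ψ : H →* Perm {y // y ≠ x₀} :=
      { toFun := fun h => (φ (h : Perm (Fin 6))).subtypePerm fun y => by
          constructor
          · intro hy e
            exact hy (by rw [e]; exact hfix h)
          · intro hy e
            exact hy ((φ (h : Perm (Fin 6))).injective (e.trans (hfix h).symm))
        map_one' := by ext y; simp
        map_mul' := fun g h => Equiv.ext fun y => Subtype.ext (by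
          show φ ((g : Perm (Fin 6)) * h) y = _
          rw [map_mul]; rfl) }
    have hinj : Function.Injective ψ := by
      rw [injective_iff_map_eq_one]
      intro h hh
      have : φ (h : Perm (Fin 6)) = 1 := by
        ext y : 1
        by_cases hy : y = x₀
        · rw [hy]; exact hfix h
        · exact congrArg Subtype.val (DFunLike.congr_fun hh ⟨y, hy⟩)
      have hk : (h : Perm (Fin 6)) ∈ φ.ker := this
      rw [← hker, hN1, Subgroup.mem_bot] at hk
      exact Subtype.ext hk
    haveI : Fintype (Perm (Fin 6) ⧸ H) := Fintype.ofFinite _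
    have h5 : Fintype.card {y // y ≠ x₀} = 5 := by
      rw [Fintype.card_subtype_compl, Fintype.card_subtype_eq, ← Nat.card_eq_fintype_card,
        ← Subgroup.index_eq_card, hsix]
    have hcard : Nat.card H = Nat.card (Perm {y // y ≠ x₀}) := by
      rw [Nat.card_perm, Nat.card_eq_fintype_card (α := {y // y ≠ x₀}), h5]
      rw [hsix] at hmul
      show Nat.card H = 120
      omega
    have hbij : Function.Bijective ψ := (Nat.bijective_iff_injective_and_card _).2 ⟨hinj, hcard⟩
    exact ⟨(MulEquiv.ofBijective ψ hbij).trans (Fintype.equivFinOfCardEq h5).permCongrHom⟩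
  · left
    rw [Subgroup.subgroupOf_eq_top] at ht
    have hA : alternatingGroup (Fin 6) ≤ H := ht.trans H.normalCore_le
    have h1 := Subgroup.index_dvd_of_le hA
    have h2 := Subgroup.card_mul_index (alternatingGroup (Fin 6))
    rw [card_alt_six, card_perm_six] at h2
    have h3 : (alternatingGroup (Fin 6)).index = 2 := by omega
    rw [h3] at h1
    have h4 : H.index = 2 := ((Nat.dvd_prime Nat.prime_two).1 h1).resolve_left hidx1
    have h6 : alternatingGroup (Fin 6) = H := Subgroup.eq_of_le_of_card_ge hA (by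
      rw [card_alt_six]; rw [h4] at hmul; omega)
    exact ⟨MulEquiv.subgroupCongr h6.symm⟩

end CfsgLib.SpIrred
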