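import Cfsg.Agent.Lib.SpIrred.Basic

/-!
Subgroups of symplectic groups in characteristic two, part 2: a transvection with full centre gives all
transvections.
-/

set_option autoImplicit false
set_option linter.unusedSectionVars false

namespace CfsgLib.SpIrred

variable {F V : Type*} [Field F] [CharP F 2] [AddCommGroup V] [Module F V] {C : Ctx F V}

/-- A transvection in a vector orthogonal to a full one gives root elements along its line. -/
theorem line_of_tv {a u v : V} {e : F} (ha : Full C a) (hau : C.B a u = 0) (hav : C.B a v = 0)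
    (huv : C.B u v = 1) (he : e ≠ 0) (h : InL C u 0 e) (μ : F) : InL C a (μ • u) (μ ^ 2 / e) := by
  obtain ⟨c, hc⟩ := ha ((μ / e) • v) (by rw [map_smul, hav, smul_zero])
  have h' := inL_conj_root h hc
  have e1 : sief C.B a ((μ / e) • v) c u = u + (μ / e) • a := by
    simp [sief, huv, symm (C := C) u a, hau]
  have e2 : sief C.B a ((μ / e) • v) c 0 = 0 := by simp [sief]
  rw [e1, e2] at h'
  have h'' := inL_tv_tv hau h h'
  rwa [show e * (μ / e) = μ by field_simp, show e * (μ / e) ^ 2 = μ ^ 2 / e by field_simp] at h''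

/-- Uniqueness up to transvections. -/
theorem inL_diff {a v : V} {c d : F} (hav : C.B a v = 0) (h1 : InL C a v c) (h2 : InL C a v d) :
    InL C a 0 (c + d) := by
  have := inL_mul hav hav h1 h2
  rwa [C.alt, add_zero, show v + v = (0 : V) by
    rw [← two_smul F, two0, zero_smul]] at this

variable [Fintype F]

/-- A root element with zero parameter, moved round a line, produces a transvection. -/
theorem closure_tv {a b u : V} (P : Pair C a b) (hu : Perp C a b u) {μ ν c d : F} (hc : c ≠ 0) (hd : d ≠ 0)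
    (hz : InL C a u 0) (hx : InL C a (μ • u) c) (hy : InL C b (ν • u) d) : InL C u 0 c⁻¹ := by
  have hba := pair_ba P
  have hua : C.B u a = 0 := by rw [symm, hu.1]
  have hub : C.B u b = 0 := by rw [symm, hu.2]
  have ya : sief C.B b (ν • u) d a = a + ν • u + d • b := by
    simp [sief, hu.1, P.ab]
  have yu : sief C.B b (ν • u) d u = u := by
    simp [sief, C.alt, hub]
  have xb : sief C.B a (μ • u) c b = b + μ • u + c • a := by
    simp [sief, hu.2, hba]
  have xu : sief C.B a (μ • u) c u = u := by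
    simp [sief, C.alt, hua]
  have step : ∀ α φ : F, InL C u (α • a) φ → InL C u ((c * d * α) • a) ((c * d * α) ^ 2 / c) := by
    intro α φ h
    obtain ⟨g, hg, hgx⟩ := hy
    obtain ⟨k, hk, hkx⟩ := hx
    have h1 := inL_conj h hg
    rw [hgx, yu, map_smul, hgx, ya,
      show α • (a + ν • u + d • b) = α • a + (α * d) • b + (α * ν) • u by module, inL_shift_iff] at h1
    have h2 := inL_mul (by simp [hua, hub]) (by simp [hua]) h1 h
    rw [show α • a + (α * d) • b + α • a = (α * d) • b by
        match_scalars <;> ring_nf <;> simp [two0],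
      show φ + φ + C.B (α • a) (α • a + (α * d) • b) = α ^ 2 * d by
        simp only [map_add, map_smul, LinearMap.smul_apply, smul_eq_mul, C.alt, P.ab]
        linear_combination φ * two0 (F := F)] at h2
    have h3 := inL_conj h2 hk
    rw [hkx, xu, map_smul, hkx, xb,
      show (α * d) • (b + μ • u + c • a) = (α * d) • b + (α * d * c) • a + (α * d * μ) • u by module,
      inL_shift_iff] at h3
    have h4 := inL_mul (by simp [hua, hub]) (by simp [hub]) h3 h2
    rw [show (α * d) • b + (α * d * c) • a + (α * d) • b = (c * d * α) • a by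
        match_scalars <;> ring_nf <;> simp [two0],
      show α ^ 2 * d + α ^ 2 * d + C.B ((α * d) • b) ((α * d) • b + (α * d * c) • a) =
          (c * d * α) ^ 2 / c by
        simp only [map_add, map_smul, LinearMap.smul_apply, smul_eq_mul, C.alt, hba]
        field_simp
        ring_nf
        simp [two0]] at h4
    exact h4
  have h0 : InL C u ((1 : F) • a) 0 := by rw [one_smul]; exact inL_swap hz
  have all : ∀ k : ℕ, InL C u ((c * d) ^ (k + 1) • a) (((c * d) ^ (k + 1)) ^ 2 / c) := by
    intro k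
    induction k with
    | zero => simpa using step 1 0 h0
    | succ k ih => rw [pow_succ' (c * d) (k + 1)]; exact step _ _ ih
  have hq := Fintype.one_lt_card (α := F)
  have h1 := all (Fintype.card F - 2)
  rw [show Fintype.card F - 2 + 1 = Fintype.card F - 1 by omega,
    FiniteField.pow_card_sub_one_eq_one _ (mul_ne_zero hc hd)] at h1
  have := inL_mul (by simp [hua]) (by simp [hua]) h1 h0
  simpa [← two_smul F a, two0, C.alt] using this

/-- A full vector with one transvection has all of them. -/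
theorem tv_full {a b w : V} (P : Pair C a b) {c₀ d₀ : F} (hc : c₀ ≠ 0) (hd : d₀ ≠ 0) (ha : InL C a 0 c₀)
    (hb : InL C b 0 d₀) (hw : Perp C a b w) (hw0 : w ≠ 0) (c : F) : InL C a 0 c := by
  classical
  by_cases hc0 : c = 0
  · rw [hc0]; exact inL_one a
  choose f hf using fun μ : F => P.fa (μ • w) (by rw [map_smul, hw.1, smul_zero])
  obtain ⟨⟨μ, ε⟩, ⟨μ', ε'⟩, hne, heq⟩ := Fintype.exists_ne_map_eq_of_card_lt
    (fun p : F × Bool => f p.1 + if p.2 then c₀ else 0) (by
      have := Fintype.one_lt_card (α := F)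
      simp only [Fintype.card_prod, Fintype.card_bool]; omega)
  have hμ : μ ≠ μ' := by
    rintro rfl
    refine hne (Prod.ext rfl ?_)
    cases ε <;> cases ε' <;> simp_all
  have h1 := inL_mul (by simp [hw.1]) (by simp [hw.1]) (hf μ) (hf μ')
  have hu0 : InL C a ((μ + μ') • w) 0 := by
    simp only [map_smul, LinearMap.smul_apply, C.alt, smul_zero, add_zero, ← add_smul] at h1
    cases ε <;> cases ε' <;> simp only [Bool.false_eq_true, if_true, if_false, add_zero] at heq
    · rwa [heq, CharTwo.add_self_eq_zero] at h1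
    · have h2 := inL_mul (by simp [hw.1]) (by simp) h1 ha
      rw [map_zero, LinearMap.zero_apply, add_zero, add_zero, heq] at h2
      rwa [show f μ' + c₀ + f μ' + c₀ = 0 by linear_combination (f μ' + c₀) * two0 (F := F)] at h2
    · have h2 := inL_mul (by simp [hw.1]) (by simp) h1 ha
      rw [map_zero, LinearMap.zero_apply, add_zero, add_zero, ← heq] at h2
      rwa [show f μ + (f μ + c₀) + c₀ = 0 by linear_combination (f μ + c₀) * two0 (F := F)] at h2
    · rwa [show f μ = f μ' from add_right_cancel heq, CharTwo.add_self_eq_zero] at h1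
  set u := (μ + μ') • w with hu
  have hμ' : μ + μ' ≠ 0 := fun h => hμ (CharTwo.add_eq_zero.1 h)
  have huP : Perp C a b u := perp_smul P hw _
  obtain ⟨v, hv, huv⟩ := perp_partner P huP (smul_ne_zero hμ' hw0)
  have hy : InL C b ((0 : F) • u) d₀ := by rwa [zero_smul]
  have t1 : InL C u 0 c₀⁻¹ := closure_tv P huP hc hd hu0 (by rwa [zero_smul] : InL C a ((0 : F) • u) c₀) hy
  obtain ⟨r, hr⟩ := sq_exists (c / c₀)
  have hr0 : r ≠ 0 := fun h => by
    rw [h, zero_pow two_ne_zero, eq_comm, div_eq_zero_iff] at hr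
    tauto
  have hx := line_of_tv P.fa huP.1 hv.1 huv (inv_ne_zero hc) t1 r
  rw [div_inv_eq_mul, hr, div_mul_cancel₀ _ hc] at hx
  have t2 : InL C u 0 c⁻¹ := closure_tv P huP hc0 hd hu0 hx hy
  have hx' := line_of_tv P.fa huP.1 hv.1 huv (inv_ne_zero hc0) t2 1
  rw [one_smul, one_pow, one_div, inv_inv] at hx'
  simpa using inL_diff huP.1 hx' hu0

variable (hbig : ∀ a b : V, ∃ w : V, w ≠ 0 ∧ C.B a w = 0 ∧ C.B b w = 0)

/-- A full vector with all transvections. -/
def Great (C : Ctx F V) (a : V) : Prop := Full C a ∧ ∀ c : F, InL C a 0 c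

theorem great_conj {a : V} (h : Great C a) {g : V ≃ₗ[F] V} (hg : g ∈ C.L) : Great C (g a) :=
  ⟨full_conj h.1 hg, fun c => by simpa using inL_conj (h.2 c) hg⟩

theorem great_smul {a : V} (h : Great C a) {t : F} (ht : t ≠ 0) : Great C (t • a) :=
  ⟨full_smul h.1 ht, fun c => (inL_scale_iff ht).2 (by rw [smul_zero]; exact h.2 _)⟩

/-- Two great vectors which are not orthogonal make every vector off the hyperplane great. -/
theorem great_off {a b : V} (ha : Great C a) (hb : Great C b) (hab : C.B a b = 1) {p : V}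
    (hp : C.B a p ≠ 0) : Great C p := by
  have hba : C.B b a = 1 := by rw [symm, hab]
  have key : ∀ p, C.B a p = 1 → Great C p := fun p hp1 => by
    set w := p + b with hw
    have haw : C.B a w = 0 := by rw [hw, map_add, hp1, hab, CharTwo.add_self_eq_zero]
    set w' := w + C.B b w • a with hw'
    have haw' : C.B a w' = 0 := by simp [hw', haw, C.alt]
    obtain ⟨c, hc⟩ := ha.1 w' haw'
    have h' := inL_mul haw' (by simp) hc (ha.2 (c + C.B b w))
    rw [map_zero, LinearMap.zero_apply, add_zero, add_zero] at h'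
    obtain ⟨g, hg, hgx⟩ := h'
    have e : g b = p := by
      rw [hgx, sief, hw']
      simp only [map_add, map_smul, smul_eq_mul, hba, mul_one, hw, C.alt]
      match_scalars <;> ring_nf <;> simp [two0, four0]
    exact e ▸ great_conj hb hg
  have h1 := key ((C.B a p)⁻¹ • p) (by rw [map_smul, smul_eq_mul, inv_mul_cancel₀ hp])
  have h2 := great_smul h1 hp
  rwa [smul_smul, mul_inv_cancel₀ hp, one_smul] at h2

/-- An irreducible group moves a vector off its hyperplane. -/
theorem exists_move (hirr : ∀ W : Submodule F V, (∀ g ∈ C.L, ∀ w ∈ W, g w ∈ W) → W = ⊥ ∨ W = ⊤)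
    {a : V} (ha : a ≠ 0) : ∃ g ∈ C.L, C.B a (g a) ≠ 0 := by
  by_contra h
  push Not at h
  set W := Submodule.span F {y | ∃ g ∈ C.L, g a = y} with hW
  have hle : W ≤ LinearMap.ker (C.B a) := Submodule.span_le.2 fun y ⟨g, hg, hgy⟩ => by
    rw [← hgy]; exact LinearMap.mem_ker.2 (h g hg)
  rcases hirr W fun g hg w hw => by
      have : W.map g.toLinearMap ≤ W := by
        rw [hW, Submodule.map_span_le]
        rintro y ⟨k, hk, rfl⟩
        exact Submodule.subset_span ⟨g * k, mul_mem hg hk, rfl⟩
      exact this ⟨w, hw, rfl⟩ with h0 | h1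
  · have : a ∈ W := Submodule.subset_span ⟨1, one_mem _, rfl⟩
    rw [h0, Submodule.mem_bot] at this
    exact ha this
  · refine ha (C.nd a fun y => LinearMap.mem_ker.1 (hle ?_))
    rw [h1]; trivial

include hbig in
/-- One transvection with full centre gives all transvections. -/
theorem all_tv (hirr : ∀ W : Submodule F V, (∀ g ∈ C.L, ∀ w ∈ W, g w ∈ W) → W = ⊥ ∨ W = ⊤)
    {a : V} (ha0 : a ≠ 0) (ha : Full C a) {c₀ : F} (hc : c₀ ≠ 0) (h : InL C a 0 c₀) (e : V) (c : F) :
    InL C e 0 c := by
  obtain ⟨g, hg, hag⟩ := exists_move hirr ha0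
  set s := (C.B a (g a))⁻¹ with hs
  have hs0 : s ≠ 0 := inv_ne_zero hag
  set b := s • g a with hb
  have P : Pair C a b := ⟨ha, full_smul (full_conj ha hg) hs0, by
    rw [hb, map_smul, smul_eq_mul, hs, inv_mul_cancel₀ hag]⟩
  have hbt : InL C b 0 (c₀ / s ^ 2) := (inL_scale_iff hs0).2 (by
    rw [smul_zero, mul_div_cancel₀ _ (pow_ne_zero _ hs0)]
    simpa using inL_conj h hg)
  have hd : c₀ / s ^ 2 ≠ 0 := div_ne_zero hc (pow_ne_zero _ hs0)
  obtain ⟨w, hw0, hwa, hwb⟩ := hbig a b
  have hA : Great C a := ⟨ha, tv_full P hc hd h hbt ⟨hwa, hwb⟩ hw0⟩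
  have hB : Great C b := ⟨P.fb, tv_full (pair_symm P) hd hc hbt h ⟨hwb, hwa⟩ hw0⟩
  by_cases he : e = 0
  · rw [he]
    exact ⟨1, one_mem _, fun x => by simp [sief]⟩
  by_cases hae : C.B a e = 0
  · obtain ⟨r, hr1, hr2⟩ : ∃ r, C.B a r ≠ 0 ∧ C.B r e ≠ 0 := by
      obtain ⟨y, hy⟩ : ∃ y, C.B y e ≠ 0 := by
        by_contra hcon
        push Not at hcon
        exact he (C.nd e fun y => by rw [symm]; exact hcon y)
      by_cases hay : C.B a y = 0
      · by_cases hbe : C.B b e = 0
        · exact ⟨y + b, by simp [hay, P.ab], by simp [hbe, hy]⟩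
        · exact ⟨b, by simp [P.ab], hbe⟩
      · exact ⟨y, hay, hy⟩
    have hR := great_off hA hB P.ab hr1
    have hra : C.B r a ≠ 0 := by rwa [symm]
    exact (great_off hR (great_smul hA (inv_ne_zero hra))
      (by rw [map_smul, smul_eq_mul, inv_mul_cancel₀ hra]) hr2).2 c
  · exact (great_off hA hB P.ab hae).2 c

end CfsgLib.SpIrred
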