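import Cfsg.Agent.Lib.SpIrred.Line

/-!
Subgroups of symplectic groups in characteristic two, part 6: the field of two elements with a second partner.
-/

set_option autoImplicit false
set_option linter.unusedSectionVars false

namespace CfsgLib.SpIrred

variable {F V : Type*} [Field F] [CharP F 2] [Fintype F] [AddCommGroup V] [Module F V] {C : Ctx F V}

theorem zero_or_one (hq : Fintype.card F = 2) (t : F) : t = 0 ∨ t = 1 := by
  classical
  by_contra hcon
  push Not at hcon
  have h3 := Finset.card_le_univ ({0, 1, t} : Finset F)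
  rw [hq, Finset.card_insert_of_notMem (by simp [Ne.symm hcon.1]),
    Finset.card_pair (Ne.symm hcon.2)] at h3
  omega

/-- With a second partner every vector outside the hyperplane is full. -/
theorem full_off (hq : Fintype.card F = 2) {a b : V} (P : Pair C a b) (hk : Full C (b + a)) {p : V}
    (hp : C.B a p ≠ 0) : Full C p := by
  have hp1 : C.B a p = 1 := (zero_or_one hq _).resolve_left hp
  set w := p + C.B p b • a + b with hw
  have hwP : Perp C a b w := by
    have := perp_proj P p
    rwa [symm p a, hp1, one_smul] at this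
  obtain ⟨c, hc⟩ := P.fa w hwP.1
  have hpw : p = b + w + C.B p b • a := by
    rw [hw]; match_scalars <;> ring_nf <;> simp [two0]
  have h1 := inL_move hc P.fb
  rw [hwP.2, zero_smul, add_zero, pair_ba P, one_smul, mul_one] at h1
  have h2 := inL_move hc hk
  rw [show C.B (b + a) w = 0 by rw [LinearMap.map_add₂, hwP.2, hwP.1, add_zero],
    show C.B (b + a) a = 1 by rw [LinearMap.map_add₂, pair_ba P, C.alt, add_zero],
    zero_smul, add_zero, one_smul, mul_one] at h2
  rcases zero_or_one hq (C.B p b + c) with h | h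
  · rw [hpw, CharTwo.add_eq_zero.1 h]; exact h1
  · have e : C.B p b = c + 1 := by linear_combination h - c * two0 (F := F)
    rw [hpw, e]
    convert h2 using 1
    rw [add_smul, one_smul]
    abel

/-- With a second partner every nonzero vector is full. -/
theorem full_all (hq : Fintype.card F = 2) {a b : V} (P : Pair C a b) (hk : Full C (b + a)) (p : V)
    (hp : p ≠ 0) : Full C p := by
  by_cases hap : C.B a p = 0
  · obtain ⟨r, hr1, hr2⟩ : ∃ r, C.B a r = 1 ∧ C.B r p ≠ 0 := by
      by_cases hbp : C.B b p = 0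
      · obtain ⟨y, hy, hpy⟩ := perp_partner P ⟨hap, hbp⟩ hp
        exact ⟨b + y, by simp [hy.1, P.ab], by simp [hbp, symm (C := C) y p, hpy]⟩
      · exact ⟨b, P.ab, hbp⟩
    have hR := full_off hq P hk (by rw [hr1]; exact one_ne_zero)
    have hRa : Full C (r + a) := full_off hq P hk (by rw [map_add, hr1, C.alt, add_zero]; exact one_ne_zero)
    exact full_off hq ⟨hR, P.fa, by rw [symm, hr1]⟩ (by rwa [add_comm]) hr2
  · exact full_off hq P hk hap

/-- In dimension at least six there is no second partner. -/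
theorem two_absurd (hq : Fintype.card F = 2) (hZ : NoTv C) (hall : ∀ p : V, p ≠ 0 → Full C p)
    {p q v w : V} (hp : p ≠ 0) (hq0 : q ≠ 0) (hpq0 : p + q ≠ 0) (hpq : C.B p q = 0) (hpv : C.B p v = 0)
    (hqv : C.B q v = 0) (hpw : C.B p w = 0) (hqw : C.B q w = 0) (hvw : C.B v w ≠ 0) : False := by
  have uni : ∀ {x y : V} {c d : F}, x ≠ 0 → C.B x y = 0 → InL C x y c → InL C x y d → c = d :=
    fun hx hxy h1 h2 => CharTwo.add_eq_zero.1 (hZ _ hx (hall _ hx) _ (inL_diff hxy h1 h2))
  -- the parameters are symmetric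
  have sy : ∀ {x y : V} {c : F}, x ≠ 0 → y ≠ 0 → C.B x y = 0 → InL C x y c → InL C y x c := by
    intro x y c hx hy hxy h
    obtain ⟨d, hd⟩ := hall y hy x (by rw [symm, hxy])
    rcases zero_or_one hq c with rfl | rfl
    · exact inL_swap h
    rcases zero_or_one hq d with rfl | rfl
    · exact absurd (uni hx hxy h (inL_swap hd)) one_ne_zero
    · exact hd
  choose f hf using fun (x : V) (y : V) (h : x ≠ 0 ∧ C.B x y = 0) => hall x h.1 y h.2
  have hv0 : v ≠ 0 := fun e => hvw (by rw [e]; simp)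
  have hw0 : w ≠ 0 := fun e => hvw (by rw [e]; simp)
  have hvw0 : v + w ≠ 0 := fun e => hvw (by
    rw [show v = w by
      rw [← sub_eq_zero, sub_eq_add_neg, ← neg_one_smul F w, CharTwo.neg_eq, one_smul, e], C.alt])
  have hpvw : C.B p (v + w) = 0 := by simp [hpv, hpw]
  have hqvw : C.B q (v + w) = 0 := by simp [hqv, hqw]
  -- additivity in the centre
  have addc : ∀ y : V, y ≠ 0 → ∀ (hy1 : C.B p y = 0) (hy2 : C.B q y = 0),
      InL C (p + q) y (f p y ⟨hp, hy1⟩ + f q y ⟨hq0, hy2⟩) := by
    intro y hy hy1 hy2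
    have h1 := sy hp hy hy1 (hf p y ⟨hp, hy1⟩)
    have h2 := sy hq0 hy hy2 (hf q y ⟨hq0, hy2⟩)
    have h3 := inL_mul (by rw [symm, hy1]) (by rw [symm, hy2]) h1 h2
    rw [symm q p, hpq, add_zero] at h3
    exact sy hy hpq0 (by rw [map_add, symm y p, symm y q, hy1, hy2, add_zero]) h3
  have e1 := inL_mul (by simp [hpv, hqv]) (by simp [hpw, hqw]) (addc v hv0 hpv hqv) (addc w hw0 hpw hqw)
  have e2 := addc (v + w) hvw0 hpvw hqvw
  have e3 := uni hp hpvw (hf p (v + w) ⟨hp, hpvw⟩) (inL_mul hpv hpw (hf p v ⟨hp, hpv⟩) (hf p w ⟨hp, hpw⟩))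
  have e4 := uni hq0 hqvw (hf q (v + w) ⟨hq0, hqvw⟩) (inL_mul hqv hqw (hf q v ⟨hq0, hqv⟩) (hf q w ⟨hq0, hqw⟩))
  have e5 := uni hpq0 (by simp [hpv, hpw, hqv, hqw]) e2 e1
  rw [e3, e4] at e5
  refine hvw ?_
  rw [symm v w]
  linear_combination e5

end CfsgLib.SpIrred
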